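import Cfsg.Agent.ClassicalMax.RootPlanes
import Cfsg.Agent.ClassicalMax.ExtField.Sympl

/-!
A quadratic form over an extension field `K` of prime degree and its trace form over `F`: the isometries linear over
`K`, transitivity on cone points, tori.
-/

set_option autoImplicit false
set_option linter.unusedSectionVars false
set_option linter.style.haveILetI false

namespace Cfsg.Agent.ClassicalMax.ExtOrth

open Module QuadraticMap Cfsg.Agent.Classical Cfsg.Agent.Classical.Quad

variable {F K V : Type*} [Field F] [Field K] [Algebra F K] [AddCommGroup V] [Module F V] [Module K V]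
  [IsScalarTower F K V] [Finite K] {Q : QuadraticForm F V} {QK : QuadraticForm K V} {l : K →ₗ[F] F}

/-- orthogonal singular vectors are dependent: the Witt index is at most one -/
def Elliptic (QK : QuadraticForm K V) : Prop :=
  ∀ v w : V, v ≠ 0 → QK v = 0 → QK w = 0 → polar QK v w = 0 → w ∈ K ∙ v

/-- `Q` is the composite of `l` with a non-degenerate form over `K` in enough variables -/
structure Setting (Q : QuadraticForm F V) (QK : QuadraticForm K V) (l : K →ₗ[F] F) : Prop where
  prime : (finrank F K).Prime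
  two : (2 : F) ≠ 0
  nd : (polarBilin QK).Nondegenerate
  four : 4 ≤ finrank K V
  big : finrank K V = 4 → 3 ≤ finrank F K ∨ Elliptic QK
  hl : l ≠ 0
  eq : ∀ x, Q x = l (QK x)

/-- restriction of scalars -/
def res (hS : Setting Q QK l) : oG QK →* oG Q where
  toFun g := ⟨g.1.restrictScalars F, fun x => by
    show Q (g.1 x) = Q x
    rw [hS.eq, hS.eq, g.2]⟩
  map_one' := rfl
  map_mul' _ _ := rfl

theorem res_apply (hS : Setting Q QK l) (g : oG QK) (x : V) : (res hS g).1 x = g.1 x := rfl

theorem res_smul (hS : Setting Q QK l) (g : oG QK) (c : K) (x : V) : (res hS g).1 (c • x) = c • (res hS g).1 x :=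
  map_smul g.1 c x

/-- the isometries linear over `K` in the commutator subgroup lie in `H` -/
def Le (hS : Setting Q QK l) (H : Subgroup (oG Q)) : Prop := ∀ h ∈ commutator (oG QK), res hS h ∈ H

namespace Setting

theorem fin (hS : Setting Q QK l) : FiniteDimensional F K := Module.finite_of_finrank_pos hS.prime.pos

theorem twoK (hS : Setting Q QK l) : (2 : K) ≠ 0 := fun h => hS.two ((algebraMap F K).injective (by rw [map_ofNat, map_zero]; exact h))

theorem polar_eq (hS : Setting Q QK l) (x z : V) : polar Q x z = l (polar QK x z) := by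
  simp only [polar, hS.eq, map_sub]

theorem cone (hS : Setting Q QK l) {x : V} (hx : QK x = 0) (c : K) : Q (c • x) = 0 := by
  rw [hS.eq, map_smul', hx, mul_zero, map_zero]

theorem sep (hS : Setting Q QK l) {a b : K} (h : ∀ c, l (c * a) = l (c * b)) : a = b := ExtField.mul_sep hS.hl h

theorem rep (hS : Setting Q QK l) (f : K →ₗ[F] F) : ∃ κ : K, ∀ c, l (c * κ) = f c :=
  haveI := hS.fin
  ExtField.mul_rep hS.hl f

theorem exists_one (hS : Setting Q QK l) {a : K} (ha : a ≠ 0) : ∃ c : K, l (c * a) = 1 := by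
  obtain ⟨c, hc⟩ : ∃ c : K, l (c * a) ≠ 0 := by
    by_contra h
    push Not at h
    exact ha (hS.sep fun c => by rw [h, mul_zero, map_zero])
  exact ⟨(l (c * a))⁻¹ • c, by rw [smul_mul_assoc, map_smul, smul_eq_mul, inv_mul_cancel₀ hc]⟩

theorem finV (hS : Setting Q QK l) : FiniteDimensional K V := Module.finite_of_finrank_pos (by have := hS.four; omega)

theorem dperp (hS : Setting Q QK l) {S : Submodule K V} {x : V}
    (h : ∀ z, (∀ s ∈ S, polar QK s z = 0) → polar QK x z = 0) : x ∈ S := by
  haveI := hS.finV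
  by_contra hx
  obtain ⟨z, hz, hz1⟩ := exists_perp hS.nd hx
  exact one_ne_zero (hz1.symm.trans (h z hz))

/-- values at two vectors -/
theorem val₂ (hS : Setting Q QK l) {v a : V} (ha : a ∉ K ∙ v) (k : K) :
    ∃ z, polar QK v z = 0 ∧ polar QK a z = k := by
  haveI := hS.finV
  obtain ⟨z, hz, hz1⟩ := exists_perp hS.nd ha
  exact ⟨k • z, by rw [polar_smul_right, hz v (Submodule.mem_span_singleton_self v), smul_zero],
    by rw [polar_smul_right, hz1, smul_eq_mul, mul_one]⟩

/-- values at three vectors -/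
theorem val₃ (hS : Setting Q QK l) {v a e : V} (he : e ∉ Submodule.span K ({v, a} : Set V)) (k : K) :
    ∃ z, polar QK v z = 0 ∧ polar QK a z = 0 ∧ polar QK e z = k := by
  haveI := hS.finV
  obtain ⟨z, hz, hz1⟩ := exists_perp hS.nd he
  exact ⟨k • z, by rw [polar_smul_right, hz v (Submodule.subset_span (Or.inl rfl)), smul_zero],
    by rw [polar_smul_right, hz a (Submodule.subset_span (Or.inr rfl)), smul_zero],
    by rw [polar_smul_right, hz1, smul_eq_mul, mul_one]⟩

theorem partner (hS : Setting Q QK l) {v : V} (hv0 : v ≠ 0) (hv : QK v = 0) :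
    ∃ y, QK y = 0 ∧ polar QK v y = 1 := by
  haveI := hS.finV
  exact exists_hyp_pair hS.nd hv0 hv

theorem finrank_pair (hS : Setting Q QK l) {v y : V} (hv : QK v = 0) (hy : QK y = 0) (hvy : polar QK v y = 1) :
    2 ≤ finrank K (perpPair QK v y) := by
  haveI := hS.finV
  have := finrank_perpPair hv hy hvy
  have := hS.four
  omega


/-- the complement of a hyperbolic pair takes every value -/
theorem value (hS : Setting Q QK l) {v y : V} (hv : QK v = 0) (hy : QK y = 0) (hvy : polar QK v y = 1) {c : K}
    (hc : c ≠ 0) : ∃ u, polar QK v u = 0 ∧ polar QK y u = 0 ∧ QK u = c := by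
  haveI := hS.finV
  obtain ⟨u, hu⟩ := exists_value (nondeg_restrictPair hS.nd hv hy hvy) hS.twoK (hS.finrank_pair hv hy hvy) hc
  exact ⟨u, (mem_perpPair.1 u.2).1, (mem_perpPair.1 u.2).2, hu⟩

theorem eo_comm (hS : Setting Q QK l) : eo QK = commutator (oG QK) := by
  haveI := hS.finV
  exact eo_eq_commutator hS.nd (by have := hS.four; omega) (hex_of_two hS.twoK _)

theorem sO_mem (hS : Setting Q QK l) {p w : V} (hp : QK p = 0) (hpw : polar QK p w = 0) :
    sO hp hpw ∈ commutator (oG QK) := hS.eo_comm ▸ sO_mem_eo hp hpw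

theorem trans (hS : Setting Q QK l) {v v' : V} (hv0 : v ≠ 0) (hv : QK v = 0) (hv0' : v' ≠ 0) (hv' : QK v' = 0) :
    ∃ h ∈ commutator (oG QK), ∃ t : K, t ≠ 0 ∧ h.1 v = t • v' := by
  haveI := hS.finV
  obtain ⟨g, hg, r⟩ := exists_eo_point hS.nd (by have := hS.four; omega) hv0 hv hv0' hv'
  exact ⟨g, hS.eo_comm ▸ hg, r⟩

theorem weyl_mem (hS : Setting Q QK l) {v y u : V} (hv : QK v = 0) (hy : QK y = 0) (hvy : polar QK v y = 1)
    (hvu : polar QK v u = 0) (hyu : polar QK y u = 0) (hu : QK u ≠ 0) :
    rPair hv hy hvy hu * rO hu ∈ commutator (oG QK) := by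
  rw [← weyl_eq hv hy hvy hvu hyu hu]
  exact mul_mem (mul_mem (hS.sO_mem _ _) (hS.sO_mem _ _)) (hS.sO_mem _ _)

/-- a hyperbolic scaling by an arbitrary factor -/
theorem torus (hS : Setting Q QK l) {v y : V} (hv : QK v = 0) (hy : QK y = 0) (hvy : polar QK v y = 1) {c : K}
    (hc : c ≠ 0) : ∃ h ∈ commutator (oG QK), h.1 v = c • v := by
  obtain ⟨u, hvu, hyu, hu⟩ := hS.value hv hy hvy (one_ne_zero (α := K))
  obtain ⟨u', hvu', hyu', hu'⟩ := hS.value hv hy hvy hc
  have hu0 : QK u ≠ 0 := by rw [hu]; exact one_ne_zero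
  have hu0' : QK u' ≠ 0 := by rwa [hu']
  refine ⟨_, mul_mem (hS.weyl_mem hv hy hvy hvu' hyu' hu0') (hS.weyl_mem hv hy hvy hvu hyu hu0), ?_⟩
  simp only [rPair, oG_mul_apply, rO_apply, Q_pair hv hy hvy, polar_add_right, polar_add_left, polar_smul_right,
    polar_smul_left, polar_sub_left, smul_eq_mul, polar_self', hv, hy, hvy, hvu, hvu', hu, hu', hyu', polar_comm QK y v]
  match_scalars <;> field_simp <;> ring

/-- a hyperbolic scaling by a square, trivial on the orthogonal complement -/
theorem torus_sq (hS : Setting Q QK l) {v y : V} (hv : QK v = 0) (hy : QK y = 0) (hvy : polar QK v y = 1) {c : K}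
    (hc : c ≠ 0) : ∃ h ∈ commutator (oG QK), h.1 v = (c * c) • v ∧
      ∀ x, polar QK v x = 0 → polar QK y x = 0 → h.1 x = x := by
  obtain ⟨u, hvu, hyu, hu⟩ := hS.value hv hy hvy (one_ne_zero (α := K))
  have hu0 : QK u ≠ 0 := by rw [hu]; exact one_ne_zero
  have hu0' : QK (c • u) ≠ 0 := by rw [map_smul', hu, mul_one]; exact mul_ne_zero hc hc
  refine ⟨_, mul_mem (hS.weyl_mem hv hy hvy (polar_perp_smul hvu c) (polar_perp_smul hyu c) hu0')
    (hS.weyl_mem hv hy hvy hvu hyu hu0), ?_, fun x hvx hyx => ?_⟩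
  · simp only [rPair, oG_mul_apply, rO_apply, Q_pair hv hy hvy, polar_add_right, polar_add_left, polar_smul_right,
      polar_smul_left, polar_sub_left, smul_eq_mul, polar_self', map_smul', hv, hy, hvy, hvu, hu, hyu, polar_comm QK y v]
    match_scalars <;> field_simp <;> ring
  · simp only [rPair, oG_mul_apply, rO_apply, Q_pair hv hy hvy, polar_add_right, polar_add_left, polar_smul_right,
      polar_smul_left, polar_sub_left, smul_eq_mul, polar_self', map_smul', hv, hy, hvy, hvu, hu, hyu, polar_comm QK x v,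
      hvx, hyx, polar_comm QK x y, polar_comm QK u v, polar_comm QK u y, polar_comm QK y v]
    match_scalars <;> field_simp <;> ring

end Setting

/-- an element interchanging the lines of two orthogonal hyperbolic pairs -/
theorem Setting.swap (hS : Setting Q QK l) {v y w w' : V} (hv : QK v = 0) (hy : QK y = 0)
    (hvy : polar QK v y = 1) (hw : QK w = 0) (hw' : QK w' = 0) (hww : polar QK w w' = 1) (hvw : polar QK v w = 0)
    (hyw : polar QK y w = 0) (hvw' : polar QK v w' = 0) (hyw' : polar QK y w' = 0) :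
    ∃ h ∈ commutator (oG QK), h.1 v = y ∧ h.1 w = w' := by
  set u := w + (-1 : K) • w' with hud
  have hu : QK u = -1 := by rw [hud, map_add_smul, hw, hw', hww]; ring
  have hvu : polar QK v u = 0 := by rw [hud, polar_add_right, polar_smul_right, hvw, hvw', smul_zero, add_zero]
  have hyu : polar QK y u = 0 := by rw [hud, polar_add_right, polar_smul_right, hyw, hyw', smul_zero, add_zero]
  have hwu : polar QK w u = -1 := by
    rw [hud, polar_add_right, polar_smul_right, hww, polar_self', hw]
    simp
  refine ⟨_, hS.weyl_mem hv hy hvy hvu hyu (by rw [hu]; exact neg_ne_zero.2 one_ne_zero), ?_, ?_⟩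
  · simp only [rPair, oG_mul_apply, rO_apply, Q_pair hv hy hvy, polar_add_right, polar_add_left, polar_smul_right,
      polar_smul_left, polar_sub_left, smul_eq_mul, polar_self', hv, hy, hvy, hvu, hu]
    match_scalars <;> field_simp <;> ring
  · simp only [rPair, oG_mul_apply, rO_apply, Q_pair hv hy hvy, polar_add_right, polar_add_left, polar_smul_right,
      polar_smul_left, polar_sub_left, smul_eq_mul, polar_self', hv, hy, hvy, hwu, hu, polar_comm QK w v, hvw,
      polar_comm QK w y, hyw, polar_comm QK u v, hvu, polar_comm QK u y, hyu]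
    rw [hud]
    match_scalars <;> field_simp <;> ring

/-- every element of a finite field of odd characteristic is a sum of two squares -/
theorem two_squares {E : Type*} [Field E] [Finite E] (h2 : (2 : E) ≠ 0) (c : E) : ∃ a b : E, a * a + b * b = c := by
  have := Fintype.ofFinite E
  rcases eq_or_ne c 0 with rfl | hc
  · exact ⟨0, 0, by ring⟩
  obtain ⟨a, b, hab⟩ := exists_binary_one h2 (inv_ne_zero hc) (inv_ne_zero hc)
  refine ⟨a, b, ?_⟩
  field_simp at hab
  linear_combination hab

end Cfsg.Agent.ClassicalMax.ExtOrth
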