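import Cfsg.Agent.ClassicalMax.ExtOrth.Basic

/-!
The normal form for an element of an overgroup that is not semilinear over the extension field: the image of a cone
line is `U v + F y` for a hyperplane `U` of the field.
-/

set_option autoImplicit false
set_option linter.unusedSectionVars false
set_option linter.style.haveILetI false

namespace Cfsg.Agent.ClassicalMax.ExtOrth

open Module QuadraticMap Cfsg.Agent.Classical Cfsg.Agent.Classical.Quad
open scoped commutatorElement

variable {F K V : Type*} [Field F] [Field K] [Algebra F K] [AddCommGroup V] [Module F V] [Module K V]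
  [IsScalarTower F K V] [Finite K] {Q : QuadraticForm F V} {QK : QuadraticForm K V} {l : K →ₗ[F] F}

theorem mem_pair {v y x : V} (h : x ∈ Submodule.span K ({v, y} : Set V)) : ∃ a b : K, x = a • v + b • y := by
  obtain ⟨a, b, e⟩ := Submodule.mem_span_pair.1 h
  exact ⟨a, b, e.symm⟩

theorem mem_one {v x : V} (h : x ∈ K ∙ v) : ∃ a : K, x = a • v := by
  obtain ⟨a, e⟩ := Submodule.mem_span_singleton.1 h
  exact ⟨a, e.symm⟩

namespace Setting

theorem exists_cone (hS : Setting Q QK l) : ∃ v, v ≠ 0 ∧ QK v = 0 := by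
  haveI := hS.finV
  exact exists_singular QK (by have := hS.four; omega)

/-- an additive map carrying cone lines into lines carries all lines into lines -/
theorem semilinear (hS : Setting Q QK l) (g : V ≃ₗ[F] V) (h : ∀ v, QK v = 0 → ∀ c : K, g (c • v) ∈ K ∙ g v) (x : V)
    (k : K) : g (k • x) ∈ K ∙ g x := by
  haveI := hS.finV
  obtain ⟨v, hv0, hv⟩ := hS.exists_cone
  obtain ⟨y, hy, hvy⟩ := hS.partner hv0 hv
  choose G hG using fun c : K => mem_one (h v hv c)
  choose G' hG' using fun c : K => mem_one (h y hy c)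
  have hy0 : y ≠ 0 := fun e => by simp [e, polar] at hvy
  have hgv : g v ≠ 0 := fun e => hv0 (g.injective (by rw [e, map_zero]))
  have hgy : g y ≠ 0 := fun e => hy0 (g.injective (by rw [e, map_zero]))
  have hsur : Function.Surjective G := Finite.surjective_of_injective fun a b e =>
    smul_left_injective K hv0 (g.injective (by rw [hG, hG, e]))
  have hsur' : Function.Surjective G' := Finite.surjective_of_injective fun a b e =>
    smul_left_injective K hy0 (g.injective (by rw [hG', hG', e]))
  have hind : ∀ (a b c : K) (z : V), polar QK v z = 0 → polar QK y z = 0 → z ≠ 0 →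
      a • g v + b • g y + c • g z = 0 → a = 0 ∧ b = 0 ∧ c = 0 := by
    intro a b c z hz1 hz2 hz0 e
    have hc : c = 0 := by
      by_contra hc
      obtain ⟨a', ha'⟩ := hsur (-(c⁻¹ * a))
      obtain ⟨b', hb'⟩ := hsur' (-(c⁻¹ * b))
      have hz : z = a' • v + b' • y := g.injective (by
        rw [map_add, hG, hG', ha', hb']
        have := congrArg (c⁻¹ • ·) e
        simp only [smul_add, smul_smul, inv_mul_cancel₀ hc, one_smul, smul_zero] at this
        linear_combination (norm := module) this)
      have h1 : b' = 0 := by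
        rw [hz, polar_add_right, polar_smul_right, polar_smul_right, polar_self', hv, hvy] at hz1
        simpa using hz1
      have h2 : a' = 0 := by
        rw [hz, polar_add_right, polar_smul_right, polar_smul_right, polar_self', hy, polar_comm QK y v, hvy] at hz2
        simpa using hz2
      exact hz0 (by rw [hz, h1, h2, zero_smul, zero_smul, add_zero])
    subst hc
    obtain ⟨a', ha'⟩ := hsur a
    obtain ⟨b', hb'⟩ := hsur' b
    rw [zero_smul, add_zero, ← ha', ← hb', ← hG, ← hG', ← map_add, LinearEquiv.map_eq_zero_iff] at e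
    have h1 : b' = 0 := by
      have := congrArg (polar QK v) e
      rw [polar_add_right, polar_smul_right, polar_smul_right, polar_self', hv, hvy] at this
      simpa [polar] using this
    have h2 : a' = 0 := by
      have := congrArg (polar QK y) e
      rw [polar_add_right, polar_smul_right, polar_smul_right, polar_self', hy, polar_comm QK y v, hvy] at this
      simpa [polar] using this
    refine ⟨?_, ?_, rfl⟩
    · rw [← ha', h2]
      have := hG 0
      rw [zero_smul, map_zero] at this
      exact (smul_eq_zero.1 this.symm).resolve_right hgv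
    · rw [← hb', h1]
      have := hG' 0
      rw [zero_smul, map_zero] at this
      exact (smul_eq_zero.1 this.symm).resolve_right hgy
  have key : ∀ z, z ≠ 0 → polar QK v z = 0 → polar QK y z = 0 → ∀ c : K,
      g (c • z) = G' c • g z ∧ G (c * QK z) = G' c * G (QK z) := by
    intro z hz0 hz1 hz2 c
    have cone : ∀ s : V, polar QK v s = 0 → polar QK y s = 0 → QK (y + s + (-QK s) • v) = 0 := fun s h1 h2 => by
      rw [map_add', map_add', map_smul', hv, hy, h2, polar_add_left, polar_smul_right, polar_smul_right,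
        polar_comm QK y v, hvy, polar_comm QK s v, h1]
      simp
    have line : ∀ s : V, polar QK v s = 0 → polar QK y s = 0 → ∃ d : K,
        G' c • g y + g (c • s) + -(G (c * QK s)) • g v = d • (g y + g s + -(G (QK s)) • g v) := fun s h1 h2 => by
      obtain ⟨d, hd⟩ := mem_one (h _ (cone s h1 h2) c)
      refine ⟨d, ?_⟩
      rw [smul_add, smul_add, smul_smul, map_add, map_add, hG', mul_neg, neg_smul, map_neg, hG] at hd
      rw [map_add, map_add, neg_smul, map_neg, hG] at hd
      rw [neg_smul, neg_smul]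
      exact hd
    obtain ⟨d, hd⟩ := line z hz1 hz2
    obtain ⟨d', hd'⟩ := line (-z) (polar_perp_neg hz1) (polar_perp_neg hz2)
    rw [smul_neg, QuadraticMap.map_neg, map_neg, map_neg] at hd'
    obtain ⟨e1, e2, e3⟩ := hind (-(2 * G (c * QK z)) + (d + d') * G (QK z)) (2 * G' c - d - d') (d' - d) z hz1 hz2 hz0
      (by linear_combination (norm := module) hd + hd')
    have hdd : d' = d := sub_eq_zero.1 e3
    subst hdd
    have hd2 : d' = G' c := mul_left_cancel₀ hS.twoK (by linear_combination -e2)
    subst hd2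
    refine ⟨?_, mul_left_cancel₀ hS.twoK (by linear_combination -e1)⟩
    have h4 : G (c * QK z) = G' c * G (QK z) := mul_left_cancel₀ hS.twoK (by linear_combination -e1)
    rw [h4] at hd
    linear_combination (norm := module) hd
  have hG1 : G 1 = 1 := by
    have := hG 1
    rw [one_smul] at this
    exact (smul_left_injective K hgv (show (fun a : K => a • g v) (G 1) = (fun a : K => a • g v) 1 by
      simpa using this.symm))
  obtain ⟨u, hu1, hu2, hu⟩ := hS.value hv hy hvy (one_ne_zero (α := K))
  have hGG : ∀ c, G c = G' c := fun c => by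
    have := (key u (fun e => by rw [e, map_zero] at hu; exact zero_ne_one hu) hu1 hu2 c).2
    rwa [hu, mul_one, hG1, mul_one] at this
  have hmul : ∀ c q : K, G (c * q) = G c * G q := fun c q => by
    rcases eq_or_ne q 0 with rfl | hq
    · have : G 0 = 0 := by
        have := hG 0
        rw [zero_smul, map_zero] at this
        exact (smul_eq_zero.1 this.symm).resolve_right hgv
      rw [mul_zero, this, mul_zero]
    obtain ⟨w, hw1, hw2, hw⟩ := hS.value hv hy hvy hq
    have := (key w (fun e => by rw [e, map_zero] at hw; exact hq hw.symm) hw1 hw2 c).2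
    rwa [hw, ← hGG] at this
  set z := x + -(polar QK y x) • v + -(polar QK v x) • y with hzd
  have hz1 : polar QK v z = 0 := by
    rw [hzd, polar_add_right, polar_add_right, polar_smul_right, polar_smul_right, polar_self', hv, hvy]
    simp
  have hz2 : polar QK y z = 0 := by
    rw [hzd, polar_add_right, polar_add_right, polar_smul_right, polar_smul_right, polar_self', hy, polar_comm QK y v,
      hvy]
    simp
  have hx : x = polar QK y x • v + polar QK v x • y + z := by rw [hzd]; module
  have hgz : g (k • z) = G k • g z := by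
    rcases eq_or_ne z 0 with e | e
    · rw [e, smul_zero, map_zero, smul_zero]
    · rw [(key z e hz1 hz2 k).1, hGG]
  refine Submodule.mem_span_singleton.2 ⟨G k, ?_⟩
  conv_lhs => rw [hx, map_add, map_add, hG, hG']
  conv_rhs => rw [hx, smul_add, smul_add, smul_smul, smul_smul, map_add, map_add, hG, hG', hgz, ← hGG, hmul, hmul]
  rw [← hGG]
  module

/-- a vector orthogonal to `v` outside a plane -/
theorem exists_perp_out (hS : Setting Q QK l) (v a : V) :
    ∃ e, polar QK v e = 0 ∧ e ∉ Submodule.span K ({v, a} : Set V) := by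
  classical
  haveI := hS.finV
  set X := LinearMap.ker ((LinearMap.lcomp K K (K ∙ v).subtype).comp (polarBilin QK))
  by_contra hc
  push Not at hc
  have h1 : finrank K V ≤ finrank K X + finrank K ↥(K ∙ v) := RootPlanes.finrank_perp_ge (K ∙ v)
  have hle : X ≤ Submodule.span K ({v, a} : Set V) := fun e he => hc e (by
    rw [polar_comm]
    exact LinearMap.congr_fun (LinearMap.mem_ker.1 he) ⟨v, Submodule.mem_span_singleton_self v⟩)
  have h2 := Submodule.finrank_mono hle
  have h3 := finrank_span_le_card (R := K) ({v, a} : Set V)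
  have h4 := finrank_span_le_card (R := K) ({v} : Set V)
  rw [Set.toFinset_insert, Set.toFinset_singleton] at h3
  rw [Set.toFinset_singleton, Finset.card_singleton] at h4
  have h5 := h3.trans Finset.card_le_two
  have := hS.four
  omega

/-- an anisotropic vector orthogonal to a singular and an orthogonal non-singular one -/
theorem exists_aniso₂ (hS : Setting Q QK l) {v a : V} (hv : QK v = 0) (ha : QK a ≠ 0) (hva : polar QK v a = 0) :
    ∃ z, polar QK v z = 0 ∧ polar QK a z = 0 ∧ QK z ≠ 0 := by
  by_contra hc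
  push Not at hc
  obtain ⟨e, hve, he⟩ := hS.exists_perp_out v a
  obtain ⟨z, hz1, hz2, hz3⟩ := hS.val₃ he 1
  have hz : z ∈ Submodule.span K ({v, a} : Set V) := hS.dperp fun z' hz' => by
    have h1 := hz' v (Submodule.subset_span (Or.inl rfl))
    have h2 := hz' a (Submodule.subset_span (Or.inr rfl))
    have := hc (z + z') (polar_perp_add hz1 h1) (polar_perp_add hz2 h2)
    rwa [map_add', hc z hz1 hz2, hc z' h1 h2, zero_add, zero_add] at this
  obtain ⟨s, t, rfl⟩ := mem_pair hz
  rw [polar_add_right, polar_smul_right, polar_smul_right, polar_comm QK a v, hva, polar_self', smul_zero, zero_add,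
    smul_eq_mul, mul_eq_zero, mul_eq_zero] at hz2
  have ht : t = 0 := hz2.resolve_right (by rintro (h | h); exacts [hS.twoK h, ha h])
  rw [ht, zero_smul, add_zero, polar_smul_right, polar_comm QK e v, hve, smul_zero] at hz3
  exact zero_ne_one hz3

/-- an element of the commutator subgroup fixing a hyperbolic pair and moving a given vector of its complement -/
theorem exists_move (hS : Setting Q QK l) {v y w : V} (hv : QK v = 0) (hy : QK y = 0) (hvy : polar QK v y = 1)
    (hw : w ∈ perpPair QK v y) (hw0 : w ≠ 0) :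
    ∃ h ∈ commutator (oG QK), h.1 v = v ∧ h.1 y = y ∧ h.1 w ≠ w := by
  haveI := hS.finV
  haveI := hS.fin
  obtain ⟨a, haW, ha, hwa⟩ : ∃ a ∈ perpPair QK v y, QK a ≠ 0 ∧ polar QK w a ≠ 0 := by
    by_cases hq : QK w = 0
    · obtain ⟨a, ha⟩ : ∃ a : perpPair QK v y, polar QK w a ≠ 0 := by
        by_contra h
        push Not at h
        exact hw0 (congrArg Subtype.val (eq_zero_of_polar (nondeg_restrictPair hS.nd hv hy hvy) (x := ⟨w, hw⟩) h))
      by_cases hqa : QK (a : V) = 0
      · refine ⟨a + w, Submodule.add_mem _ a.2 hw, ?_, ?_⟩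
        · rw [map_add', hqa, hq, polar_comm]; simpa using ha
        · rw [polar_add_right, polar_self', hq, mul_zero, add_zero]; exact ha
      · exact ⟨a, a.2, hqa, ha⟩
    · exact ⟨w, hw, hq, by rw [polar_self']; exact mul_ne_zero hS.twoK hq⟩
  obtain ⟨c, hc0, hcW, hac⟩ : ∃ c, c ≠ 0 ∧ c ∈ perpPair QK v y ∧ polar QK a c = 0 := by
    let L : perpPair QK v y →ₗ[K] K := (polarBilin QK a).comp (perpPair QK v y).subtype
    have h1 := LinearMap.finrank_range_add_finrank_ker L
    have h2 := Submodule.finrank_le (LinearMap.range L)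
    rw [finrank_self] at h2
    have h3 := hS.finrank_pair hv hy hvy
    obtain ⟨c, hcm, hc0⟩ := Submodule.exists_mem_ne_zero_of_ne_bot (p := LinearMap.ker L)
      (fun e => by rw [e, finrank_bot] at h1; omega)
    exact ⟨c, fun e => hc0 (Subtype.ext e), c.2, hcm⟩
  obtain ⟨θ, hθ0, hθ⟩ : ∃ θ : K, θ ≠ 0 ∧ QK (a + θ • c) ≠ 0 := by
    by_cases h : QK (a + (1 : K) • c) = 0
    · obtain ⟨θ, hθ⟩ : ∃ θ : K, ∀ t : F, algebraMap F K t ≠ θ := by
        by_contra hc'
        push Not at hc'
        have h1 := hS.prime.two_le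
        have h2 := LinearMap.finrank_range_le (Algebra.linearMap F K)
        rw [show LinearMap.range (Algebra.linearMap F K) = ⊤ from eq_top_iff.2 fun z _ => hc' z, finrank_top,
          finrank_self] at h2
        omega
      refine ⟨θ, fun e => hθ 0 (by rw [map_zero, e]), fun h' => ?_⟩
      rw [map_add_smul, hac, mul_zero, add_zero] at h h'
      have h5 : (θ - 1) * (θ + 1) * QK c = 0 := by linear_combination h' - h
      rcases mul_eq_zero.1 h5 with h6 | h6
      · rcases mul_eq_zero.1 h6 with h7 | h7
        · exact hθ 1 (by rw [map_one]; linear_combination -h7)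
        · exact hθ (-1) (by rw [map_neg, map_one]; linear_combination -h7)
      · rw [h6, mul_zero, add_zero] at h
        exact ha h
    · exact ⟨1, one_ne_zero, h⟩
  set b := a + θ • c with hb
  have hbW : b ∈ perpPair QK v y := Submodule.add_mem _ haW (Submodule.smul_mem _ θ hcW)
  have hab : polar QK a b = 2 * QK a := by
    rw [hb, polar_add_right, polar_smul_right, hac, smul_zero, add_zero, polar_self']
  refine ⟨⁅rO ha, rO hθ⁆, Subgroup.commutator_mem_commutator (Subgroup.mem_top _) (Subgroup.mem_top _), ?_, ?_, ?_⟩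
  · have h1 : polar QK a v = 0 := by rw [polar_comm]; exact (mem_perpPair.1 haW).1
    have h2 : polar QK b v = 0 := by rw [polar_comm]; exact (mem_perpPair.1 hbW).1
    simp [commutatorElement_def, rO_inv, oG_mul_apply, rO_apply, polar_comm QK v, h1, h2]
  · have h1 : polar QK y a = 0 := (mem_perpPair.1 haW).2
    have h2 : polar QK y b = 0 := (mem_perpPair.1 hbW).2
    simp [commutatorElement_def, rO_inv, oG_mul_apply, rO_apply, h1, h2]
  intro hfix
  set a' := (rO hθ).1 a with ha'
  have hqa' : QK a' ≠ 0 := by rw [ha', (rO hθ).2]; exact ha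
  have e : ⁅rO ha, rO hθ⁆ = rO ha * rO hqa' := by
    rw [commutatorElement_def, rO_inv, rO_inv, mul_assoc, mul_assoc, ← conj_rO (rO hθ) ha, rO_inv]
    simp only [mul_assoc]
  rw [e, oG_mul_apply] at hfix
  have h1 := congrArg (rO ha).1 hfix
  rw [← oG_mul_apply, rO_mul_self, oG_one_apply, rO_apply, rO_apply] at h1
  have h2 : (polar QK w a' / QK a') • a' = (polar QK w a / QK a) • a := sub_right_injective h1
  have hnot : a' ∉ K ∙ a := by
    intro hm
    obtain ⟨s, hs⟩ := mem_one hm
    rw [ha', rO_apply, hab] at hs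
    have hca : c ∈ K ∙ a := by
      refine Submodule.mem_span_singleton.2 ⟨(1 - 2 * QK a / QK b - s) / (2 * QK a / QK b * θ), ?_⟩
      rw [hb] at hs ⊢
      rw [smul_add, smul_smul] at hs
      have hk : (2 * QK a / QK (a + θ • c) * θ) • c = (1 - 2 * QK a / QK (a + θ • c) - s) • a := by
        linear_combination (norm := module) -hs
      rw [div_eq_inv_mul (1 - _ - s), mul_smul, ← hk, inv_smul_smul₀]
      exact mul_ne_zero (div_ne_zero (mul_ne_zero hS.twoK ha) hθ) hθ0
    obtain ⟨t, rfl⟩ := mem_one hca
    rw [polar_smul_right, polar_self', smul_eq_mul, mul_eq_zero, mul_eq_zero] at hac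
    rcases hac with h | h | h
    · exact hc0 (by rw [h, zero_smul])
    · exact hS.twoK h
    · exact ha h
  by_cases hcoef : polar QK w a' / QK a' = 0
  · rw [hcoef, zero_smul] at h2
    rcases smul_eq_zero.1 h2.symm with h | h
    · exact hwa ((div_eq_zero_iff.1 h).resolve_right ha)
    · exact ha (by rw [h, map_zero])
  · exact hnot (Submodule.mem_span_singleton.2 ⟨(polar QK w a' / QK a')⁻¹ * (polar QK w a / QK a),
      by rw [mul_smul, ← h2, inv_smul_smul₀ hcoef]⟩)

end Setting

/-- a cone line as a subspace over `F` -/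
def line (F : Type*) {K V : Type*} [Field F] [Field K] [Algebra F K] [AddCommGroup V] [Module F V] [Module K V]
    [IsScalarTower F K V] (v : V) : Submodule F V := (K ∙ v).restrictScalars F

/-- the image of a cone line -/
def img (K : Type*) [Field K] [Algebra F K] [Module K V] [IsScalarTower F K V] (g : oG Q) (x : V) : Submodule F V :=
  (line (K := K) F x).map (g.1 : V →ₗ[F] V)

theorem mem_line {v x : V} : x ∈ line (K := K) F v ↔ x ∈ K ∙ v := Iff.rfl

theorem smul_mem_line (v : V) (c : K) : c • v ∈ line (K := K) F v :=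
  Submodule.smul_mem _ c (Submodule.mem_span_singleton_self v)

theorem mem_img {g : oG Q} {x w : V} : w ∈ img K g x ↔ ∃ c : K, g.1 (c • x) = w := by
  constructor
  · rintro ⟨w', hw', rfl⟩
    obtain ⟨c, rfl⟩ := mem_one (K := K) hw'
    exact ⟨c, rfl⟩
  · rintro ⟨c, rfl⟩
    exact ⟨_, smul_mem_line x c, rfl⟩

theorem apply_mem_img (g : oG Q) (x : V) (c : K) : g.1 (c • x) ∈ img K g x := mem_img.2 ⟨c, rfl⟩

theorem Setting.finrank_line (hS : Setting Q QK l) {v : V} (hv : v ≠ 0) :
    finrank F (line (K := K) F v) = finrank F K :=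
  ((LinearEquiv.toSpanNonzeroSingleton K V v hv).restrictScalars F).finrank_eq.symm

theorem Setting.finrank_img (hS : Setting Q QK l) (g : oG Q) {v : V} (hv : v ≠ 0) :
    finrank F (img K g v) = finrank F K :=
  (LinearEquiv.finrank_map_eq g.1 _).trans (hS.finrank_line hv)

theorem Setting.img_sing (hS : Setting Q QK l) {g : oG Q} {x : V} (hx : QK x = 0) {w : V} (hw : w ∈ img K g x) :
    Q w = 0 := by
  obtain ⟨c, rfl⟩ := mem_img.1 hw
  rw [g.2, hS.cone hx]

theorem Setting.img_polar (hS : Setting Q QK l) {g : oG Q} {x : V} (hx : QK x = 0) {a b : V} (ha : a ∈ img K g x)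
    (hb : b ∈ img K g x) : l (polar QK a b) = 0 := by
  rw [← hS.polar_eq]
  have := map_add' (Q := Q) a b
  rw [hS.img_sing hx (Submodule.add_mem _ ha hb), hS.img_sing hx ha, hS.img_sing hx hb, zero_add, zero_add] at this
  exact this.symm

section Over

variable [FiniteDimensional F V] {H : Subgroup (oG Q)}

/-- an element of `H` whose image of a cone line is not a line and contains the cone point `v` -/
structure Tr (QK : QuadraticForm K V) (H : Subgroup (oG Q)) (g : oG Q) (x v : V) : Prop where
  gH : g ∈ H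
  x0 : x ≠ 0
  xc : QK x = 0
  v0 : v ≠ 0
  vc : QK v = 0
  vm : v ∈ img K g x
  nl : img K g x ≠ line (K := K) F v

/-- the dimension of the part of the image on the line -/
noncomputable def dimI (K : Type*) [Field K] [Algebra F K] [Module K V] [IsScalarTower F K V] (g : oG Q) (x v : V) :
    ℕ := finrank F (img K g x ⊓ line (K := K) F v : Submodule F V)

/-- the Siegel transformations over `K` -/
noncomputable abbrev tK (hS : Setting Q QK l) {v z : V} (hv : QK v = 0) (hz : polar QK v z = 0) : oG Q :=
  res hS (sO hv hz)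

theorem tK_apply (hS : Setting Q QK l) {v z : V} (hv : QK v = 0) (hz : polar QK v z = 0) (x : V) :
    (tK hS hv hz).1 x = x + polar QK x z • v + (-polar QK x v) • z + (-(QK z * polar QK x v)) • v := by
  rw [res_apply, sO_apply]

theorem Setting.tK_mem (hS : Setting Q QK l) (hle : Le hS H) {v z : V} (hv : QK v = 0) (hz : polar QK v z = 0) :
    tK hS hv hz ∈ H := hle _ (hS.sO_mem hv hz)

theorem tK_fix (hS : Setting Q QK l) {v z : V} (hv : QK v = 0) (hz : polar QK v z = 0) (c : K) :
    (tK hS hv hz).1 (c • v) = c • v := by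
  rw [tK_apply, polar_smul_left, polar_smul_left, hz, polar_self', hv]
  simp

/-- the image of the line under `g⁻¹ T g` -/
theorem img_conj (g T : oG Q) (x : V) :
    img K (g⁻¹ * T * g) x = ((img K g x).map (T.1 : V →ₗ[F] V)).map ((g⁻¹).1 : V →ₗ[F] V) := by
  rw [img, img, ← Submodule.map_comp, ← Submodule.map_comp]
  rfl

/-- if the image under `g⁻¹ T g` of the line of `x` is a line then `T` stabilises the image under `g` -/
theorem Tr.stab (hS : Setting Q QK l) {g T : oG Q} {x v : V} (h : Tr QK H g x v) (hT : T.1 v = v)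
    (hl' : img K (g⁻¹ * T * g) x = line (K := K) F ((g⁻¹).1 v)) :
    (img K g x).map (T.1 : V →ₗ[F] V) = img K g x := by
  obtain ⟨c, hc⟩ := mem_img.1 h.vm
  have hgv : (g⁻¹).1 v = c • x := by rw [← hc, oG_inv_apply]
  have hline : line (K := K) F ((g⁻¹).1 v) = line (K := K) F x := by
    rw [hgv, line, line, Submodule.span_singleton_smul_eq]
    exact IsUnit.mk0 c (fun e => h.v0 (by rw [← hc, e, zero_smul, map_zero]))
  rw [hline, img_conj] at hl'
  have := congrArg (Submodule.map (g.1 : V →ₗ[F] V)) hl'
  rw [← Submodule.map_comp] at this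
  rw [show (g.1 : V →ₗ[F] V).comp ((g⁻¹).1 : V →ₗ[F] V) = LinearMap.id from
    LinearMap.ext fun z => oG_apply_inv g z, Submodule.map_id] at this
  exact this

/-- the triple moved by `T` -/
theorem Tr.move {g T : oG Q} {x v : V} (h : Tr QK H g x v) (hTH : T ∈ H) (hT : T.1 v = v)
    (hnl : img K (g⁻¹ * T * g) x ≠ line (K := K) F ((g⁻¹).1 v)) : Tr QK H (g⁻¹ * T * g) x ((g⁻¹).1 v) where
  gH := mul_mem (mul_mem (inv_mem h.gH) hTH) h.gH
  x0 := h.x0
  xc := h.xc
  v0 := fun e => h.v0 (by have := congrArg g.1 e; rwa [oG_apply_inv, map_zero] at this)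
  vc := by
    obtain ⟨c, hc⟩ := mem_img.1 h.vm
    rw [← hc, oG_inv_apply, map_smul', h.xc, mul_zero]
  vm := by
    rw [img_conj]
    exact ⟨_, ⟨v, h.vm, rfl⟩, by show (g⁻¹).1 (T.1 v) = _; rw [hT]⟩
  nl := hnl

theorem Tr.inf_le {g T : oG Q} {x v : V} (h : Tr QK H g x v) :
    dimI K (g⁻¹ * T * g) x ((g⁻¹).1 v) =
      finrank F ((img K g x).map (T.1 : V →ₗ[F] V) ⊓ img K g x : Submodule F V) := by
  obtain ⟨c, hc⟩ := mem_img.1 h.vm
  have hgv : (g⁻¹).1 v = c • x := by rw [← hc, oG_inv_apply]
  have hline : line (K := K) F ((g⁻¹).1 v) = (img K g x).map ((g⁻¹).1 : V →ₗ[F] V) := by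
    rw [hgv, line, Submodule.span_singleton_smul_eq (IsUnit.mk0 c (fun e => h.v0 (by rw [← hc, e, zero_smul, map_zero]))),
      img, ← Submodule.map_comp]
    rw [show ((g⁻¹).1 : V →ₗ[F] V).comp (g.1 : V →ₗ[F] V) = LinearMap.id from
      LinearMap.ext fun z => oG_inv_apply g z, Submodule.map_id]
    rfl
  rw [dimI, hline, img_conj, ← Submodule.map_inf _ (g⁻¹).1.injective]
  exact LinearEquiv.finrank_map_eq (g⁻¹).1 _

/-- the dichotomy at a triple of maximal dimension -/
theorem Tr.dich (hS : Setting Q QK l) {g T : oG Q} {x v : V} (h : Tr QK H g x v)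
    (hmax : ∀ g' x' v', Tr QK H g' x' v' → dimI K g' x' v' ≤ dimI K g x v) (hTH : T ∈ H)
    (hT : ∀ c : K, c • v ∈ img K g x → T.1 (c • v) = c • v) {y : V} (hy : y ∈ img K g x)
    (hyl : y ∉ line (K := K) F v) (hTy : T.1 y ∈ img K g x) :
    ∀ z ∈ img K g x, T.1 z ∈ img K g x := by
  have hTv : T.1 v = v := by
    have := hT 1 (by rw [one_smul]; exact h.vm)
    rwa [one_smul] at this
  suffices (img K g x).map (T.1 : V →ₗ[F] V) = img K g x from fun z hz => this ▸ ⟨z, hz, rfl⟩
  refine h.stab hS hTv (by_contra fun hnl => ?_)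
  have h1 := hmax _ _ _ (h.move hTH hTv hnl)
  rw [h.inf_le, dimI] at h1
  have hfix : ∀ z ∈ (img K g x ⊓ line (K := K) F v : Submodule F V), T.1 z = z := fun z hz => by
    obtain ⟨c, rfl⟩ := mem_one (K := K) hz.2
    exact hT c hz.1
  have heq : (img K g x ⊓ line (K := K) F v : Submodule F V) = (img K g x).map (T.1 : V →ₗ[F] V) ⊓ img K g x :=
    Submodule.eq_of_le_of_finrank_le (fun z hz => ⟨⟨z, hz.1, hfix z hz⟩, hz.1⟩) h1
  have h2 : T.1 y ∈ (img K g x ⊓ line (K := K) F v : Submodule F V) := by
    rw [heq]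
    exact ⟨⟨y, hy, rfl⟩, hTy⟩
  exact hyl ((T.1.injective (hfix _ h2)) ▸ h2.2)

end Over

end Cfsg.Agent.ClassicalMax.ExtOrth
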