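import Cfsg.Agent.ClassicalMax.ExtOrth.Omega

/-!
Overgroups in an orthogonal group over `F` of the commutator subgroup of an orthogonal group over an extension field of
prime degree contain every Siegel transformation as soon as one element is not semilinear.
-/

set_option autoImplicit false
set_option linter.unusedSectionVars false
set_option linter.style.haveILetI false

namespace Cfsg.Agent.ClassicalMax.ExtOrth

open Module QuadraticMap Cfsg.Agent.Classical Cfsg.Agent.Classical.Quad Cfsg.Agent.ClassicalMax.RootPlanes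
open scoped commutatorElement

section General

variable {F V : Type*} [Field F] [AddCommGroup V] [Module F V] {Q : QuadraticForm F V} {H : Subgroup (oG Q)}

theorem sing_polar {C : Submodule F V} (hC : ∀ c ∈ C, Q c = 0) {a b : V} (ha : a ∈ C) (hb : b ∈ C) :
    polar Q a b = 0 := by
  rw [polar, hC _ (C.add_mem ha hb), hC a ha, hC b hb, sub_self, sub_self]

/-- the commutator of two elements attached to totally singular subspaces paired with rank one -/
theorem rank_one {o o' : oG Q} {B C : Submodule F V} (hoH : o ∈ H) (ho'H : o' ∈ H) (hC : ∀ c ∈ C, Q c = 0)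
    (hB : ∀ c ∈ B, Q c = 0) (hoC : ∀ x, o.1 x - x ∈ C) (ho'B : ∀ x, o'.1 x - x ∈ B)
    (hfC : ∀ x, (∀ c ∈ C, polar Q c x = 0) → o.1 x = x) (hfB : ∀ x, (∀ b ∈ B, polar Q b x = 0) → o'.1 x = x)
    {b₀ c₀ : V} (hb₀ : b₀ ∈ B) (hc₀ : c₀ ∈ C) (h1 : polar Q b₀ c₀ = 1)
    (hrk : ∀ b ∈ B, ∀ c ∈ C, polar Q b c = polar Q b c₀ * polar Q b₀ c) :
    ∃ (hz : Q (o'.1 c₀ - c₀) = 0) (hw : polar Q (o'.1 c₀ - c₀) (o.1 b₀ - b₀) = 0),
      sO hz hw ∈ H ∧ polar Q b₀ (o.1 b₀ - b₀) = 0 := by
  have skew : ∀ (k : oG Q) (D : Submodule F V), (∀ c ∈ D, Q c = 0) → (∀ x, k.1 x - x ∈ D) → ∀ x y,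
      polar Q (k.1 x - x) y = -polar Q x (k.1 y - y) := fun k D hD hk x y => by
    have := sing_polar hD (hk x) (hk y)
    rw [polar_sub_left, polar_sub_right, polar_sub_right, polar_oG] at this
    rw [polar_sub_left, polar_sub_right]
    linear_combination -this
  have hX := skew o C hC hoC
  have hY := skew o' B hB ho'B
  set z := o'.1 c₀ - c₀ with hzd
  set w := o.1 b₀ - b₀ with hwd
  have hzB : z ∈ B := ho'B c₀
  have hwC : w ∈ C := hoC b₀
  have hb0w : polar Q b₀ w = 0 := by
    have e := o.2 b₀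
    rw [show o.1 b₀ = b₀ + w by rw [hwd]; abel, map_add', hC w hwC, add_zero] at e
    linear_combination e
  have hc0z : polar Q z c₀ = 0 := by
    have e := o'.2 c₀
    rw [show o'.1 c₀ = c₀ + z by rw [hzd]; abel, map_add', hB z hzB, add_zero] at e
    rw [polar_comm]
    linear_combination e
  have hBw : ∀ b ∈ B, polar Q b w = 0 := fun b hb => by rw [hrk b hb w hwC, hb0w, mul_zero]
  have hCz : ∀ c ∈ C, polar Q c z = 0 := fun c hc => by rw [polar_comm, hrk z hzB c hc, hc0z, zero_mul]
  have hob : ∀ b ∈ B, o.1 b = b + polar Q b c₀ • w := fun b hb => by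
    have := hfC (b - polar Q b c₀ • b₀) fun c hc => by
      rw [polar_sub_right, polar_smul_right, polar_comm Q c b, polar_comm Q c b₀, hrk b hb c hc, smul_eq_mul, sub_self]
    rw [map_sub, map_smul] at this
    rw [hwd]
    linear_combination (norm := module) this
  have ho'c : ∀ c ∈ C, o'.1 c = c + polar Q b₀ c • z := fun c hc => by
    have := hfB (c - polar Q b₀ c • c₀) fun b hb => by
      rw [polar_sub_right, polar_smul_right, hrk b hb c hc, smul_eq_mul, mul_comm, sub_self]
    rw [map_sub, map_smul] at this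
    rw [hzd]
    linear_combination (norm := module) this
  have hzw : polar Q z w = 0 := hBw z hzB
  refine ⟨hB z hzB, hzw, ?_, hb0w⟩
  have e : sO (hB z hzB) hzw * (o' * o) = o * o' := ext_oG fun v => by
    have e1 : o'.1 (o.1 v) = v + (o.1 v - v) + (o'.1 v - v) + (-polar Q w v) • z := by
      have := ho'c _ (hoC v)
      rw [map_sub] at this
      rw [show polar Q b₀ (o.1 v - v) = -polar Q w v by rw [hwd, hX b₀ v, neg_neg]] at this
      linear_combination (norm := module) this
    have e2 : o.1 (o'.1 v) = v + (o.1 v - v) + (o'.1 v - v) + (-polar Q v z) • w := by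
      have := hob _ (ho'B v)
      rw [map_sub] at this
      rw [show polar Q (o'.1 v - v) c₀ = -polar Q v z by rw [hzd, hY v c₀]] at this
      linear_combination (norm := module) this
    rw [oG_mul_apply, oG_mul_apply, oG_mul_apply, e1, e2, sO_apply, hC w hwC]
    simp only [polar_add_left, polar_smul_left, sing_polar hC (hoC v) hwC, hBw _ (ho'B v), hzw,
      sing_polar hB (ho'B v) hzB, hCz _ (hoC v), polar_self', hB z hzB, polar_comm Q w v]
    simp only [smul_zero, mul_zero, add_zero, neg_smul, zero_mul, zero_smul, neg_zero]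
    abel
  have : sO (hB z hzB) hzw = o * o' * (o' * o)⁻¹ := by rw [← e, mul_inv_cancel_right]
  exact this ▸ mul_mem (mul_mem hoH ho'H) (inv_mem (mul_mem ho'H hoH))

/-- scalings of both vectors by the same factor generate all multiples -/
theorem pl_of_squares [Finite F] (h2 : (2 : F) ≠ 0) {u v : V} (hu : Q u = 0) (hv : Q v = 0) (huv : polar Q u v = 0)
    (h : ∀ s : F, s ≠ 0 → ∀ (h₁ : Q (s • u) = 0) (h₂ : polar Q (s • u) (s • v) = 0), sO h₁ h₂ ∈ H) : Pl H u v := by
  refine ⟨hu, hv, huv, fun c hu' hc => ?_⟩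
  have key : ∀ s : F, sO hu (polar_perp_smul huv (s * s)) ∈ H := fun s => by
    rcases eq_or_ne s 0 with rfl | hs
    · rw [sO_congr hu _ (by simp [polar]) (show (0 * 0 : F) • v = 0 by simp), sO_zero]
      exact one_mem _
    have h₁ : Q (s • u) = 0 := by rw [map_smul', hu, mul_zero]
    have h₂ : polar Q (s • u) (s • v) = 0 := by rw [polar_smul_left, polar_smul_right, huv, smul_zero, smul_zero]
    have := h s hs h₁ h₂
    rwa [sO_smul_left hu (polar_perp_smul huv s) s h₁ h₂,
      sO_congr hu _ (polar_perp_smul huv (s * s)) (smul_smul s s v)] at this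
  obtain ⟨a, b, rfl⟩ := two_squares h2 c
  rw [sO_congr hu' hc (polar_perp_add (polar_perp_smul huv (a * a)) (polar_perp_smul huv (b * b))) (add_smul _ _ _),
    ← sO_mul hu (polar_perp_smul huv (a * a)) (polar_perp_smul huv (b * b))]
  exact mul_mem (key a) (key b)

theorem pl_of_tS {e w : V} {he : Q e = 0} (h : w ∈ tS H he) (hw : Q w = 0) : Pl H e w :=
  ⟨he, hw, h.1, fun l _ h' => h.2 l h'⟩

theorem pl_sub {u v w : V} (h : Pl H u (v + w)) (h' : Pl H u v) (hvw : polar Q (v + w) v = 0) : Pl H u w := by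
  have := h.add_right (h'.smul_right (-1)) (polar_perp_smul hvw _)
  rwa [show v + w + (-1 : F) • v = w by module] at this

end General

section Field

variable {F K : Type*} [Field F] [Field K] [Algebra F K]

/-- in an extension of prime degree at least three the square of an element outside `F` is not in `F + F x` -/
theorem sq_notMem (hp : (finrank F K).Prime) (h3 : 3 ≤ finrank F K) {x : K} (hx : ∀ t : F, algebraMap F K t ≠ x) :
    x * x ∉ Submodule.span F ({1, x} : Set K) := fun hm => by
  classical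
  haveI : FiniteDimensional F K := Module.finite_of_finrank_pos hp.pos
  set M := Submodule.span F ({1, x} : Set K) with hM
  have h1 : (1 : K) ∈ M := Submodule.subset_span (Or.inl rfl)
  have hmul : ∀ a b : K, a ∈ M → b ∈ M → a * b ∈ M := fun a b ha hb => by
    obtain ⟨s, t, rfl⟩ := Submodule.mem_span_pair.1 ha
    obtain ⟨s', t', rfl⟩ := Submodule.mem_span_pair.1 hb
    rw [show (s • (1 : K) + t • x) * (s' • (1 : K) + t' • x) =
      (s * s') • (1 : K) + (s * t' + t * s') • x + (t * t') • (x * x) by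
        simp only [Algebra.smul_def, map_mul, map_add]; ring]
    exact M.add_mem (M.add_mem (M.smul_mem _ h1) (M.smul_mem _ (Submodule.subset_span (Or.inr rfl)))) (M.smul_mem _ hm)
  haveI := Subalgebra.isSimpleOrder_of_finrank_prime F K hp
  rcases eq_bot_or_eq_top (M.toSubalgebra h1 hmul) with e | e
  · have hxS : x ∈ M.toSubalgebra h1 hmul := Submodule.subset_span (Or.inr rfl)
    obtain ⟨t, ht⟩ := Algebra.mem_bot.1 (e ▸ hxS)
    exact hx t ht
  · have htop : M = ⊤ := eq_top_iff.2 fun c _ => (e.symm ▸ Algebra.mem_top : c ∈ M.toSubalgebra h1 hmul)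
    have h4 := finrank_span_le_card (R := F) ({1, x} : Set K)
    rw [Set.toFinset_insert, Set.toFinset_singleton, ← hM, htop, finrank_top] at h4
    have := h4.trans Finset.card_le_two
    omega

/-- a linear map with `x f(x)` always in one line is zero -/
theorem eq_zero_of_self_mul (hp : (finrank F K).Prime) (h3 : 3 ≤ finrank F K) (h2 : (2 : F) ≠ 0) (f : K →ₗ[F] K)
    (h : ∀ x : K, ∃ s : F, x * f x = algebraMap F K s) : f = 0 := by
  obtain ⟨c, hc⟩ := h 1
  rw [one_mul] at hc
  have hpol : ∀ y, ∃ s : F, f y = algebraMap F K s - c • y := fun y => by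
    obtain ⟨s, hs⟩ := h (1 + y)
    obtain ⟨s', hs'⟩ := h y
    refine ⟨s - s' - c, ?_⟩
    rw [map_add, hc] at hs
    rw [map_sub, map_sub, Algebra.smul_def]
    linear_combination hs - hs'
  have hout : ∀ y : K, (∀ t : F, algebraMap F K t ≠ y) → c = 0 ∧ f y = 0 := fun y hy => by
    obtain ⟨s, hs⟩ := hpol y
    obtain ⟨s', hs'⟩ := h y
    have hc0 : c = 0 := by
      by_contra hc0
      refine sq_notMem hp h3 hy (Submodule.mem_span_pair.2 ⟨-(c⁻¹ * s'), c⁻¹ * s, ?_⟩)
      have e : c • (y * y) = s • y - s' • (1 : K) := by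
        rw [hs] at hs'
        simp only [Algebra.smul_def, mul_one] at hs' ⊢
        linear_combination -hs'
      rw [← inv_smul_smul₀ hc0 (y * y), e]
      module
    refine ⟨hc0, ?_⟩
    rw [hc0, zero_smul, sub_zero] at hs
    rw [hs] at hs' ⊢
    by_contra hne
    have hs0 : s ≠ 0 := fun e => hne (by rw [e, map_zero])
    refine hy (s' / s) ?_
    rw [map_div₀, ← hs', mul_div_cancel_right₀ _ hne]
  haveI : FiniteDimensional F K := Module.finite_of_finrank_pos hp.pos
  obtain ⟨y₀, hy₀⟩ : ∃ y : K, ∀ t : F, algebraMap F K t ≠ y := by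
    by_contra hcon
    push Not at hcon
    have h4 := LinearMap.finrank_range_le (Algebra.linearMap F K)
    rw [show LinearMap.range (Algebra.linearMap F K) = ⊤ from eq_top_iff.2 fun z _ => hcon z, finrank_top,
      finrank_self] at h4
    omega
  refine LinearMap.ext fun y => ?_
  by_cases hy : ∀ t : F, algebraMap F K t ≠ y
  · exact (hout y hy).2
  push Not at hy
  obtain ⟨t, rfl⟩ := hy
  rw [LinearMap.zero_apply, Algebra.algebraMap_eq_smul_one, map_smul, hc, (hout y₀ hy₀).1, map_zero, smul_zero]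

/-- some rotation has its first coordinate squared outside a given hyperplane of the field -/
theorem exists_rot [Finite K] (hp : (finrank F K).Prime) (h5 : 3 ≤ finrank F K) (h2 : (2 : F) ≠ 0)
    {l : K →ₗ[F] F} (hl : l ≠ 0) {q δ : K} (hq : q ≠ 0) (hlq : l q = 0) (hδ : δ ≠ 0)
    (hden : ∀ s : K, δ + s * s ≠ 0) : ∃ s : K, l (q * (((δ - s * s) / (δ + s * s)) * ((δ - s * s) / (δ + s * s)))) ≠ 0 := by
  classical
  have h2K : (2 : K) ≠ 0 := fun h => h2 ((algebraMap F K).injective (by rw [map_ofNat, map_zero]; exact h))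
  haveI : FiniteDimensional F K := Module.finite_of_finrank_pos hp.pos
  by_contra hcon
  push Not at hcon
  let R : Set K := {a | ∃ x y : K, x * x + δ * (y * y) = 1 ∧ x * x = a}
  have hR : ∀ a ∈ R, l (q * a) = 0 := by
    rintro a ⟨x, y, hxy, rfl⟩
    by_cases hx : 1 + x = 0
    · rw [show x = -1 by linear_combination hx, neg_mul_neg, one_mul, mul_one, hlq]
    have e := hcon (δ * y / (1 + x))
    have hφ : (δ - δ * y / (1 + x) * (δ * y / (1 + x))) = x * (δ + δ * y / (1 + x) * (δ * y / (1 + x))) := by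
      field_simp
      linear_combination (-(1 + x)) * hxy
    rw [hφ, mul_div_cancel_right₀ _ (hden _)] at e
    exact e
  set M := Submodule.span F R with hM
  have h1 : (1 : K) ∈ M := Submodule.subset_span ⟨1, 0, by ring, by ring⟩
  have hmulR : ∀ a ∈ R, ∀ b ∈ R, a * b ∈ M := by
    rintro a ⟨x, y, hxy, rfl⟩ b ⟨x', y', hxy', rfl⟩
    have m1 : (x * x' - δ * (y * y')) * (x * x' - δ * (y * y')) ∈ M := Submodule.subset_span
      ⟨_, x * y' + y * x', by linear_combination (x' * x' + δ * (y' * y')) * hxy + hxy', rfl⟩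
    have m2 : (x * x' + δ * (y * y')) * (x * x' + δ * (y * y')) ∈ M := Submodule.subset_span
      ⟨_, -(x * y') + y * x', by linear_combination (x' * x' + δ * (y' * y')) * hxy + hxy', rfl⟩
    have ma : x * x ∈ M := Submodule.subset_span ⟨x, y, hxy, rfl⟩
    have mb : x' * x' ∈ M := Submodule.subset_span ⟨x', y', hxy', rfl⟩
    have h4 : (4 : F) ≠ 0 := by
      rw [show (4 : F) = 2 * 2 by norm_num]
      exact mul_ne_zero h2 h2
    refine (M.smul_mem_iff h4).1 ?_
    have e : (4 : F) • (x * x * (x' * x')) = (x * x' - δ * (y * y')) * (x * x' - δ * (y * y')) +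
        (x * x' + δ * (y * y')) * (x * x' + δ * (y * y')) + (2 : F) • (x * x) + (2 : F) • (x' * x') - (2 : F) • 1 := by
      simp only [Algebra.smul_def, map_ofNat]
      linear_combination (-2 * (δ * (y' * y'))) * hxy + (-2 * (1 - x * x)) * hxy'
    rw [e]
    exact M.sub_mem (M.add_mem (M.add_mem (M.add_mem m1 m2) (M.smul_mem _ ma)) (M.smul_mem _ mb)) (M.smul_mem _ h1)
  have hmul : ∀ a b : K, a ∈ M → b ∈ M → a * b ∈ M := fun a b ha hb => by
    induction ha using Submodule.span_induction with
    | mem a ha =>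
      induction hb using Submodule.span_induction with
      | mem b hb => exact hmulR a ha b hb
      | zero => rw [mul_zero]; exact M.zero_mem
      | add b b' _ _ h h' => rw [mul_add]; exact M.add_mem h h'
      | smul c b _ h => rw [mul_smul_comm]; exact M.smul_mem c h
    | zero => rw [zero_mul]; exact M.zero_mem
    | add a a' _ _ h h' => rw [add_mul]; exact M.add_mem h h'
    | smul c a _ h => rw [smul_mul_assoc]; exact M.smul_mem c h
  haveI := Subalgebra.isSimpleOrder_of_finrank_prime F K hp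
  rcases eq_bot_or_eq_top (M.toSubalgebra h1 hmul) with e | e
  swap
  · refine hq (ExtField.mul_sep hl fun c => ?_)
    rw [mul_zero, map_zero, mul_comm]
    have hc : c ∈ M := (e.symm ▸ Algebra.mem_top : c ∈ M.toSubalgebra h1 hmul)
    induction hc using Submodule.span_induction with
    | mem a ha => exact hR a ha
    | zero => rw [mul_zero, map_zero]
    | add a a' _ _ h h' => rw [mul_add, map_add, h, h', add_zero]
    | smul c a _ h => rw [mul_smul_comm, map_smul, h, smul_zero]
  have hF : ∀ s : K, ∃ t : F, algebraMap F K t = ((δ - s * s) / (δ + s * s)) * ((δ - s * s) / (δ + s * s)) := fun s => by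
    have hm : ((δ - s * s) / (δ + s * s)) * ((δ - s * s) / (δ + s * s)) ∈ M.toSubalgebra h1 hmul :=
      Submodule.subset_span ⟨_, 2 * s / (δ + s * s), by
        rw [div_mul_div_comm, div_mul_div_comm, mul_div_assoc', ← add_div,
          div_eq_one_iff_eq (mul_ne_zero (hden s) (hden s))]
        ring, rfl⟩
    exact Algebra.mem_bot.1 (e ▸ hm)
  choose t ht using hF
  haveI := Fintype.ofFinite K
  haveI : Finite F := Finite.of_injective _ (algebraMap F K).injective
  haveI := Fintype.ofFinite F
  have hfib : ∀ b ∈ (Finset.univ.image t : Finset F), (Finset.univ.filter fun s => t s = b).card ≤ 4 := by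
    intro b hb
    obtain ⟨s₀, -, rfl⟩ := Finset.mem_image.1 hb
    refine le_trans (Finset.card_le_card (t := {s₀, -s₀, δ / s₀, -(δ / s₀)}) fun s hs => ?_) Finset.card_le_four
    have e1 := ht s
    rw [(Finset.mem_filter.1 hs).2, ht s₀] at e1
    have d1 := hden s
    have d2 := hden s₀
    rw [div_mul_div_comm, div_mul_div_comm, div_eq_div_iff (mul_ne_zero d2 d2) (mul_ne_zero d1 d1)] at e1
    have e2 : (4 * δ) * (((s - s₀) * (s + s₀)) * ((s * s₀ - δ) * (s * s₀ + δ))) = 0 := by linear_combination -e1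
    have h4δ : (4 : K) * δ ≠ 0 := by
      rw [show (4 : K) = 2 * 2 by norm_num]
      exact mul_ne_zero (mul_ne_zero h2K h2K) hδ
    simp only [mul_eq_zero (a := 4 * δ), h4δ, false_or, mul_eq_zero] at e2
    simp only [Finset.mem_insert, Finset.mem_singleton]
    rcases e2 with (h | h) | (h | h)
    · exact Or.inl (sub_eq_zero.1 h)
    · exact Or.inr (Or.inl (eq_neg_of_add_eq_zero_left h))
    · have hs0 : s₀ ≠ 0 := fun h0 => hδ (by rw [h0, mul_zero, zero_sub, neg_eq_zero] at h; exact h)
      exact Or.inr (Or.inr (Or.inl (by rw [eq_div_iff hs0]; linear_combination h)))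
    · have hs0 : s₀ ≠ 0 := fun h0 => hδ (by rw [h0, mul_zero, zero_add] at h; exact h)
      exact Or.inr (Or.inr (Or.inr (by rw [← neg_div, eq_div_iff hs0]; linear_combination h)))
  have hc1 := Finset.card_le_mul_card_image (Finset.univ : Finset K) 4 hfib
  have hc2 : (Finset.univ.image t).card ≤ Fintype.card F := Finset.card_le_univ _
  rw [Finset.card_univ, Module.card_eq_pow_finrank (K := F) (V := K)] at hc1
  have hF3 : 3 ≤ Fintype.card F := by
    by_contra hlt
    have hc : Fintype.card F = 2 := by have := Fintype.one_lt_card (α := F); omega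
    have := FiniteField.cast_card_eq_zero F
    rw [hc] at this
    exact h2 (by exact_mod_cast this)
  have h6 : Fintype.card F ^ 3 ≤ Fintype.card F ^ finrank F K := Nat.pow_le_pow_right (by omega) h5
  have h7 : 9 * Fintype.card F ≤ Fintype.card F ^ 3 := by
    have := Nat.pow_le_pow_left hF3 2
    calc 9 * Fintype.card F ≤ Fintype.card F ^ 2 * Fintype.card F := Nat.mul_le_mul_right _ (by simpa using this)
      _ = Fintype.card F ^ 3 := by ring
  omega

end Field

variable {F K V : Type*} [Field F] [Field K] [Algebra F K] [AddCommGroup V] [Module F V] [Module K V]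
  [IsScalarTower F K V] [Finite K] [Finite F] [FiniteDimensional F V] {Q : QuadraticForm F V} {QK : QuadraticForm K V}
  {l : K →ₗ[F] F} {H : Subgroup (oG Q)}

namespace Setting

/-- transitivity on cone vectors -/
theorem transVec (hS : Setting Q QK l) {v v' : V} (hv0 : v ≠ 0) (hv : QK v = 0) (hv0' : v' ≠ 0) (hv' : QK v' = 0) :
    ∃ h ∈ commutator (oG QK), h.1 v = v' := by
  obtain ⟨k, hk, t, ht, hkv⟩ := hS.trans hv0 hv hv0' hv'
  obtain ⟨y, hy, hvy⟩ := hS.partner hv0' hv'
  obtain ⟨k', hk', hkv'⟩ := hS.torus hv' hy hvy (inv_ne_zero ht)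
  exact ⟨k' * k, mul_mem hk' hk, by rw [oG_mul_apply, hkv, map_smul, hkv', smul_inv_smul₀ ht]⟩

theorem decomp (hS : Setting Q QK l) {v y : V} (hv : QK v = 0) (hy : QK y = 0) (hvy : polar QK v y = 1) (x : V) :
    ∃ z ∈ perpPair QK v y, x = polar QK y x • v + polar QK v x • y + z := by
  refine ⟨x - (polar QK y x • v + polar QK v x • y), mem_perpPair.2 ⟨?_, ?_⟩, by abel⟩
  · rw [polar_sub_right, polar_add_right, polar_smul_right, polar_smul_right, polar_self', hv, hvy]; simp
  · rw [polar_sub_right, polar_add_right, polar_smul_right, polar_smul_right, polar_self', hy, polar_comm QK y v, hvy]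
    simp

/-- cone vectors span an isotropic complement of a hyperbolic pair -/
theorem cone_span (hS : Setting Q QK l) {v y w : V} (hv : QK v = 0) (hy : QK y = 0) (hvy : polar QK v y = 1)
    (hw0 : w ≠ 0) (hw : QK w = 0) (hwW : w ∈ perpPair QK v y) (S : Submodule F V)
    (hcone : ∀ z ∈ perpPair QK v y, QK z = 0 → z ∈ S) : ∀ x ∈ perpPair QK v y, x ∈ S := by
  haveI := hS.finV
  obtain ⟨w', hw', hww⟩ := exists_hyp_pair (nondeg_restrictPair hS.nd hv hy hvy) (p := ⟨w, hwW⟩)
    (fun e => hw0 (congrArg Subtype.val e)) hw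
  have good : ∀ x ∈ perpPair QK v y, polar QK x w ≠ 0 → x ∈ S := fun x hx hne => by
    have hm := Submodule.smul_mem (perpPair QK v y) (-(QK x / polar QK x w)) hwW
    have h1 := hcone _ (Submodule.add_mem _ hx hm) (by
      rw [map_add_smul, hw]
      field_simp
      ring)
    have h2 := S.sub_mem h1 (hcone _ hm (by rw [map_smul', hw, mul_zero]))
    rwa [add_sub_cancel_right] at h2
  intro x hx
  by_cases h : polar QK x w = 0
  swap
  · exact good x hx h
  have hww' : polar QK (w' : V) w = 1 := by rw [polar_comm]; exact hww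
  have h1 := good (x + w') (Submodule.add_mem _ hx w'.2) (by rw [polar_add_left, h, hww', zero_add]; exact one_ne_zero)
  have h2 := S.sub_mem h1 (hcone _ w'.2 hw')
  rwa [add_sub_cancel_right] at h2

end Setting

/-- conjugating a pair in the root group -/
theorem pl_res (hS : Setting Q QK l) (hle : Le hS H) {a b : V} (h : Pl H a b) {k : oG QK}
    (hk : k ∈ commutator (oG QK)) : Pl H (k.1 a) (k.1 b) := h.conj (hle k hk)

/-- the transvected root element of the image of the line -/
theorem conj_root (hS : Setting Q QK l) {g : oG Q} (hg : g ∈ H) {v : V} {o : oG Q} (h : Root QK H v o) :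
    g * o * g⁻¹ ∈ H ∧ (∀ x, (g * o * g⁻¹).1 x - x ∈ img K g v) ∧
      ∀ x, (∀ c ∈ img K g v, polar Q c x = 0) → (g * o * g⁻¹).1 x = x := by
  refine ⟨mul_mem (mul_mem hg h.mem) (inv_mem hg), fun x => ?_, fun x hx => ?_⟩
  · obtain ⟨c, hc⟩ := mem_one (h.im hS ((g⁻¹).1 x))
    refine mem_img.2 ⟨c, ?_⟩
    rw [← hc, map_sub, oG_apply_inv, oG_mul_apply, oG_mul_apply]
  · have h0 : polar QK v ((g⁻¹).1 x) = 0 := hS.sep fun c => by
      rw [mul_zero, map_zero, ← smul_eq_mul, ← polar_smul_left, ← hS.polar_eq, ← polar_oG g, oG_apply_inv]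
      exact hx _ (apply_mem_img g v c)
    rw [oG_mul_apply, oG_mul_apply, h.fix _ h0, oG_apply_inv]

theorem Root.line_props (hS : Setting Q QK l) {w : V} {o : oG Q} (h : Root QK H w o) :
    (∀ x, o.1 x - x ∈ line (K := K) F w) ∧ ∀ x, (∀ b ∈ line (K := K) F w, polar Q b x = 0) → o.1 x = x :=
  ⟨fun x => h.im hS x, fun x hx => h.fix x (hS.sep fun c => by
    rw [mul_zero, map_zero, ← smul_eq_mul, ← polar_smul_left, ← hS.polar_eq]
    exact hx _ (smul_mem_line w c))⟩

theorem line_sing (hS : Setting Q QK l) {w : V} (hw : QK w = 0) : ∀ c ∈ line (K := K) F w, Q c = 0 := fun c hc => by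
  obtain ⟨t, rfl⟩ := mem_one (K := K) hc
  exact hS.cone hw t

/-- the case of an isotropic complement -/
theorem caseI (hS : Setting Q QK l) (hle : Le hS H) {g : oG Q} {v a : V} (h : Std QK H g v a) {o : oG Q}
    (ho : Root QK H v o) (ho1 : o ≠ 1) {w : V} (hw : QK w = 0) (hvw : polar QK v w = 0) (haw : polar QK a w ≠ 0) :
    Full H v := by
  classical
  haveI := hS.finV
  haveI := hS.fin
  have hv := h.vc
  have hw0 : w ≠ 0 := fun e => haw (by rw [e]; simp [polar])
  have hwa : polar QK w a ≠ 0 := by rwa [polar_comm]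
  have hvnw : v ∉ K ∙ w := fun hm => by
    obtain ⟨t, ht⟩ := mem_one hm
    have := h.perp
    rw [ht, polar_smul_left, smul_eq_mul] at this
    exact h.v0 (by rw [ht, (mul_eq_zero.1 this).resolve_right hwa, zero_smul])
  obtain ⟨z₀, hz₀w, hz₀v⟩ := hS.val₂ (v := w) (a := v) hvnw 1
  set y := z₀ + (-QK z₀) • v with hyd
  have hy : QK y = 0 := by rw [hyd, map_add_smul, hv, polar_comm QK z₀ v, hz₀v]; ring
  have hvy : polar QK v y = 1 := by
    rw [hyd, polar_add_right, hz₀v, polar_smul_right, polar_self', hv]; simp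
  have hyw : polar QK y w = 0 := by
    rw [hyd, polar_add_left, polar_smul_left, polar_comm QK z₀ w, hz₀w, hvw, smul_zero, add_zero]
  have hwW : w ∈ perpPair QK v y := mem_perpPair.2 ⟨hvw, hyw⟩
  obtain ⟨w', hw', hww'⟩ := exists_hyp_pair (nondeg_restrictPair hS.nd hv hy hvy) (p := ⟨w, hwW⟩)
    (fun e => hw0 (congrArg Subtype.val e)) hw
  have hw'W : polar QK v (w' : V) = 0 ∧ polar QK y (w' : V) = 0 := mem_perpPair.1 w'.2
  replace hw' : QK (w' : V) = 0 := hw'
  replace hww' : polar QK w (w' : V) = 1 := hww'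
  -- the first root element
  obtain ⟨β, hβ⟩ := hS.exists_one hwa
  have hb1 : polar Q (β • w) a = 1 := by rw [hS.polar_eq, polar_smul_left, smul_eq_mul, hβ]
  have hne : polar QK v ((g⁻¹).1 (β • w)) ≠ 0 := fun e => by
    obtain ⟨c, hc⟩ := mem_img.1 h.am
    have h0 : polar Q (g.1 (c • v)) (β • w) = 0 := by
      rw [← polar_oG g⁻¹, oG_inv_apply, hS.polar_eq, polar_smul_left, e, smul_zero, map_zero]
    rw [hc, polar_comm, hb1] at h0
    exact one_ne_zero h0
  obtain ⟨o₁, ho₁, hmv₁⟩ := Root.exists_moving hS hle h.v0 hv ho ho1 hv hne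
  obtain ⟨o₂, ho₂, hmv₂⟩ := Root.exists_moving hS hle h.v0 hv ho ho1 hw hwa
  obtain ⟨c1, c2, c3⟩ := conj_root hS h.gH ho₁
  obtain ⟨d2, d3⟩ := ho₂.line_props hS
  obtain ⟨hz, hzw, hmem, hb0w⟩ := rank_one c1 ho₂.mem (fun c hc => hS.img_sing hv hc) (line_sing hS hw) c2 d2 c3 d3
    (smul_mem_line w β) h.am hb1 (fun b hb c hc => by
      obtain ⟨t, ht⟩ := h.dec c hc
      obtain ⟨s, rfl⟩ := mem_one (K := K) hb
      obtain ⟨s', hs'⟩ := mem_one (K := K) ht
      have e : ∀ s : K, polar Q (s • w) c = t * polar Q (s • w) a := fun s => by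
        rw [show c = s' • v + t • a by rw [← hs']; abel, polar_add_right, polar_smul_right (y := a), hS.polar_eq,
          polar_smul_left, polar_smul_right, polar_comm QK w v, hvw, smul_zero, smul_zero, map_zero, zero_add, smul_eq_mul]
      rw [e, e, hb1, mul_one, mul_comm])
  set o' := g * o₁ * g⁻¹
  have hw1ne : o'.1 (β • w) - β • w ≠ 0 := fun e => hmv₁ (by
    have := congrArg (g⁻¹).1 (sub_eq_zero.1 e)
    rwa [oG_mul_apply, oG_mul_apply, oG_inv_apply] at this)
  obtain ⟨u, hu⟩ : ∃ u : K, o'.1 (β • w) - β • w = u • v := by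
    obtain ⟨t, ht⟩ := h.dec _ (c2 (β • w))
    obtain ⟨s, hs⟩ := mem_one (K := K) ht
    have e := hb0w
    rw [show o'.1 (β • w) - β • w = s • v + t • a by rw [← hs]; abel, polar_add_right, polar_smul_right (y := a), hb1,
      hS.polar_eq, polar_smul_left, polar_smul_right, polar_comm QK w v, hvw, smul_zero, smul_zero, map_zero, zero_add,
      smul_eq_mul, mul_one] at e
    exact ⟨s, by rw [show o'.1 (β • w) - β • w = s • v + t • a by rw [← hs]; abel, e, zero_smul, add_zero]⟩
  have hu0 : u ≠ 0 := fun e => hw1ne (by rw [hu, e, zero_smul])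
  obtain ⟨a', ha'⟩ := mem_one (d2 a : o₂.1 a - a ∈ K ∙ w)
  have ha'0 : a' ≠ 0 := fun e => hmv₂ (sub_eq_zero.1 (by rw [ha', e, zero_smul]))
  have hperp : ∀ c d : K, polar Q (c • v) (d • w) = 0 := fun c d => by
    rw [hS.polar_eq, polar_smul_left, polar_smul_right, hvw, smul_zero, smul_zero, map_zero]
  have huv : Q (u • v) = 0 := hS.cone hv u
  have hel : sO huv (hperp u (-a')) ∈ H := by
    have h1 : sO (hS.cone hw a') (show polar Q (a' • w) (u • v) = 0 by rw [polar_comm, hperp]) ∈ H := by
      convert hmem using 2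
      all_goals first | exact ha'.symm | exact hu.symm
    have e : sO huv (hperp u (-a')) =
        sO (hS.cone hw a') (show polar Q (a' • w) (u • v) = 0 by rw [polar_comm, hperp]) := ext_oG fun x => by
      simp only [sO_apply, neg_smul, polar_neg_right, QuadraticMap.map_neg, hS.cone hv, hS.cone hw]
      module
    rw [e]; exact h1
  have hsq : ∀ c : K, sO huv (hperp u (c * c * -a')) ∈ H := fun c => by
    rcases eq_or_ne c 0 with rfl | hc
    · rw [sO_congr huv _ (by simp [polar]) (show (0 * 0 * -a') • w = 0 by simp), sO_zero]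
      exact one_mem _
    obtain ⟨k, hk, hkw, hkfix⟩ := hS.torus_sq hw hw' hww' hc
    have hkv : k.1 v = v := hkfix v (by rw [polar_comm, hvw]) (by rw [polar_comm, hw'W.1])
    have h1 := mul_mem (mul_mem (hle k hk) hel) (inv_mem (hle k hk))
    rw [conj_sO] at h1
    convert h1 using 2
    · rw [res_apply, map_smul, hkv]
    · rw [res_apply, map_smul, hkw, smul_smul]; congr 1; ring
  have hallw : ∀ c : K, sO huv (hperp u c) ∈ H := fun c => by
    obtain ⟨s, t, hst⟩ := two_squares hS.twoK (c / -a')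
    rw [sO_congr huv _ (polar_perp_add (hperp u (s * s * -a')) (hperp u (t * t * -a')))
      (by rw [← add_smul, ← add_mul, hst, div_mul_cancel₀ _ (neg_ne_zero.2 ha'0)]),
      ← sO_mul huv (hperp u (s * s * -a')) (hperp u (t * t * -a'))]
    exact mul_mem (hsq s) (hsq t)
  have plu : ∀ c : K, Pl H (u • v) (c • w) := fun c => ⟨huv, hS.cone hw c, hperp u c, fun t _ ht => by
    rw [sO_congr huv ht (hperp u (t • c)) (smul_assoc t c w).symm]
    exact hallw _⟩
  have plwv : ∀ c d : K, Pl H (c • w) (d • v) := fun c d => by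
    have key : ∀ s : K, Pl H (c • w) ((s * s * u) • v) := fun s => by
      rcases eq_or_ne s 0 with rfl | hs
      · simpa using (plu c).symm.smul_right 0
      obtain ⟨k, hk, hkv, hkfix⟩ := hS.torus_sq hv hy hvy hs
      have h1 := pl_res hS hle (plu c).symm hk
      rwa [map_smul, map_smul, hkfix w hvw hyw, hkv, smul_smul, mul_comm u] at h1
    obtain ⟨s, t, hst⟩ := two_squares hS.twoK (d / u)
    have h2 := (key s).add_right (key t) (by
      rw [hS.polar_eq, polar_smul_left, polar_smul_right, polar_self', hv]; simp)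
    rwa [← add_smul, ← add_mul, hst, div_mul_cancel₀ _ hu0] at h2
  have hwnv : w ∉ K ∙ v := fun hm => by
    obtain ⟨t, ht⟩ := mem_one hm
    rw [ht, polar_smul_right, polar_comm QK a v, h.perp, smul_zero] at haw
    exact haw rfl
  obtain ⟨z₁, hz₁v, hz₁w⟩ := hS.val₂ hwnv 1
  have plvv : ∀ c d : K, Pl H (c • v) (d • v) := fun c d => by
    have h1 := pl_res hS hle (plwv d c).symm (hS.sO_mem hv hz₁v)
    have ev : (sO hv hz₁v).1 v = v := siegel_fix hv hz₁v (by rw [polar_self', hv, mul_zero]) hz₁v
    have ew : (sO hv hz₁v).1 w = w + v := by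
      rw [sO_apply, hz₁w, polar_comm QK w v, hvw]
      simp
    rw [map_smul, map_smul, ev, ew, smul_add] at h1
    exact pl_sub h1 ((plwv d c).symm) (by
      rw [polar_add_left, hperp d d, polar_self', hS.cone hw d]; simp)
  obtain ⟨k, hk, hkv, hkw⟩ := hS.swap hv hy hvy hw hw' hww' hvw hyw hw'W.1 hw'W.2
  have plyw : ∀ c d : K, Pl H (c • y) (d • (w' : V)) := fun c d => by
    have := pl_res hS hle (plwv d c).symm hk
    rwa [map_smul, map_smul, hkv, hkw] at this
  obtain ⟨κ, hκ⟩ := hS.exists_one (one_ne_zero (α := K))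
  rw [mul_one] at hκ
  have plvy : ∀ c : K, l c = 0 → Pl H v (c • y) := fun c hc => by
    have h1 : Pl H v w := by simpa using (plwv 1 1).symm
    refine h1.rule (plyw c κ).symm ?_ ?_ ?_ ?_
    · rw [hS.polar_eq, polar_smul_right, hw'W.1, smul_zero, map_zero]
    · rw [hS.polar_eq, polar_smul_right, hvy, smul_eq_mul, mul_one, hc]
    · rw [hS.polar_eq, polar_smul_right, polar_comm QK w y, hyw, smul_zero, map_zero]
    · rw [hS.polar_eq, polar_smul_right, show polar QK w (w' : V) = 1 from hww', smul_eq_mul, mul_one, hκ]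
      exact one_ne_zero
  obtain ⟨lam₀, hlam₁, hlam0⟩ := Submodule.exists_mem_ne_zero_of_ne_bot (p := LinearMap.ker l) (fun e => by
    have h1 := LinearMap.finrank_range_add_finrank_ker l
    have h2 := Submodule.finrank_le (LinearMap.range l)
    rw [e, finrank_bot] at h1
    rw [finrank_self] at h2
    have := hS.prime.two_le
    omega)
  obtain ⟨κ', hκ', hκ'0⟩ := Submodule.exists_mem_ne_zero_of_ne_bot
    (p := LinearMap.ker (l.comp (LinearMap.mulLeft F lam₀))) (fun e => by
    have h1 := LinearMap.finrank_range_add_finrank_ker (l.comp (LinearMap.mulLeft F lam₀))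
    have h2 := Submodule.finrank_le (LinearMap.range (l.comp (LinearMap.mulLeft F lam₀)))
    rw [e, finrank_bot] at h1
    rw [finrank_self] at h2
    have := hS.prime.two_le
    omega)
  obtain ⟨κ₁, hκ₁⟩ := hS.exists_one hlam0
  have he : Q v = 0 := by simpa using hS.cone hv 1
  have hV0 : ∀ x ∈ perpPair QK v y, x ∈ tS H he := hS.cone_span hv hy hvy hw0 hw hwW _ fun z hz hzc => by
    obtain ⟨hvz, hyz⟩ := mem_perpPair.1 hz
    set e := v + κ'⁻¹ • z with hed
    have hec : QK e = 0 := by rw [hed, map_add', map_smul', hzc, hv, polar_smul_right, hvz]; simp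
    have he0 : e ≠ 0 := fun e' => by
      have := congrArg (polar QK y) e'
      rw [hed, polar_add_right, polar_smul_right, hyz, polar_comm QK y v, hvy] at this
      simp [polar] at this
    obtain ⟨k', hk', hk'v⟩ := hS.transVec h.v0 hv he0 hec
    have h1 : Pl H (κ₁ • e) (κ' • e) := by
      have := pl_res hS hle (plvv κ₁ κ') hk'
      rwa [map_smul, map_smul, hk'v] at this
    have hve : polar QK v e = 0 := by rw [hed, polar_add_right, polar_smul_right, hvz, polar_self', hv]; simp
    have hye : polar QK y e = 1 := by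
      rw [hed, polar_add_right, polar_smul_right, hyz, polar_comm QK y v, hvy]; simp
    have h2 : Pl H v (κ' • e) := (plvy lam₀ hlam₁).rule h1
      (by rw [hS.polar_eq, polar_smul_right, hve, smul_zero, map_zero])
      (by rw [hS.polar_eq, polar_smul_right, hve, smul_zero, map_zero])
      (by rw [hS.polar_eq, polar_smul_left, polar_smul_right, hye, smul_eq_mul, smul_eq_mul, mul_one]; exact hκ')
      (by rw [hS.polar_eq, polar_smul_left, polar_smul_right, hye, smul_eq_mul, smul_eq_mul, mul_one, mul_comm, hκ₁]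
          exact one_ne_zero)
    rw [hed, smul_add, smul_inv_smul₀ hκ'0] at h2
    have h3 := (tS H he).sub_mem (mem_tS (he := he) h2) (mem_tS (he := he) (by simpa using plvv 1 κ'))
    rwa [add_sub_cancel_left] at h3
  refine full_of_tS he fun x hx => ?_
  obtain ⟨z, hz, hxe⟩ := hS.decomp hv hy hvy x
  rw [hxe]
  refine add_mem (add_mem (mem_tS (by simpa using plvv 1 (polar QK y x))) (mem_tS (plvy _ ?_))) (hV0 z hz)
  rw [← hS.polar_eq, hx]

set_option maxHeartbeats 1000000 in
/-- all of the complement and the line in the subspace of translations -/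
theorem full_of_complement (hS : Setting Q QK l) (hle : Le hS H) {v y : V} (hv : QK v = 0) (hv0 : v ≠ 0) (hy : QK y = 0)
    (hvy : polar QK v y = 1) (he : Q v = 0) (hKv : ∀ c : K, c • v ∈ tS H he)
    (hV0 : ∀ x ∈ perpPair QK v y, x ∈ tS H he) : Full H v := by
  classical
  haveI := hS.finV
  haveI := hS.fin
  set W := perpPair QK v y with hW
  have hperp : ∀ x, polar QK v x = 0 → x ∈ tS H he := fun x hx => by
    obtain ⟨z, hz, hxe⟩ := hS.decomp hv hy hvy x
    rw [hxe, hx, zero_smul, add_zero]
    exact add_mem (hKv _) (hV0 z hz)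
  -- singular vectors over `F` of the complement
  set WF : Submodule F V := W.restrictScalars F with hWF
  have hWd : 3 ≤ finrank F WF := by
    have h1 : finrank F WF = finrank F K * finrank K W := (Module.finrank_mul_finrank F K W).symm
    have h2 : 2 ≤ finrank K W := hS.finrank_pair hv hy hvy
    have h3 := Nat.mul_le_mul_left (finrank F K) h2
    have := hS.prime.two_le
    omega
  have hnd : (polarBilin (Q.comp WF.subtype)).Nondegenerate := nondeg_of fun x hx => by
    by_contra hne
    have hne' : (⟨x.1, x.2⟩ : W) ≠ 0 := fun e => hne (Subtype.ext (congrArg (Subtype.val : W → V) e))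
    refine hne' (eq_zero_of_polar (nondeg_restrictPair hS.nd hv hy hvy) fun z => hS.sep fun c => ?_)
    show l (c * polar QK (x : V) (z : V)) = l (c * 0)
    rw [mul_zero, map_zero, ← smul_eq_mul, ← polar_smul_right, ← hS.polar_eq]
    exact hx ⟨c • (z : V), Submodule.smul_mem W c z.2⟩
  obtain ⟨z₁, hz₁0, hz₁⟩ := exists_singular (Q.comp WF.subtype) hWd
  obtain ⟨z₂, hz₂, hz₁₂⟩ := exists_hyp_pair hnd hz₁0 hz₁
  refine full_of_tS he fun x hx => ?_
  obtain ⟨z, hz, hxe⟩ := hS.decomp hv hy hvy x
  rw [hxe]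
  refine add_mem (add_mem (hKv _) ?_) (hV0 z hz)
  set c := polar QK v x
  have hc : l c = 0 := by rw [← hS.polar_eq, hx]
  rcases eq_or_ne c 0 with hc0 | hc0
  · rw [hc0, zero_smul]; exact Submodule.zero_mem _
  have hy0 : y ≠ 0 := fun e => by rw [e] at hvy; simp [polar] at hvy
  have hcy : QK (c • y) = 0 := by rw [map_smul', hy, mul_zero]
  obtain ⟨k', hk', hk'v⟩ := hS.transVec hv0 hv (smul_ne_zero hc0 hy0) hcy
  have h1 : Pl H v (z₁ : V) := pl_of_tS (hperp _ (mem_perpPair.1 z₁.2).1) hz₁
  have h2 : Pl H (z₂ : V) (c • y) := by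
    have hyz : polar QK (c • y) (z₂ : V) = 0 := by rw [polar_smul_left, (mem_perpPair.1 z₂.2).2, smul_zero]
    have hm : polar QK v ((k'⁻¹).1 (z₂ : V)) = 0 := by rw [← polar_oG k', oG_apply_inv, hk'v, hyz]
    have hq2 : Q ((k'⁻¹).1 (z₂ : V)) = 0 := by rw [hS.eq, (k'⁻¹).2, ← hS.eq]; exact hz₂
    have := pl_res hS hle (pl_of_tS (hperp _ hm) hq2) hk'
    rw [hk'v, oG_apply_inv] at this
    exact this.symm
  refine mem_tS (h1.rule h2 ?_ ?_ ?_ ?_)
  · rw [hS.polar_eq, (mem_perpPair.1 z₂.2).1, map_zero]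
  · rw [hS.polar_eq, polar_smul_right, hvy, smul_eq_mul, mul_one, hc]
  · rw [hS.polar_eq, polar_smul_right, polar_comm QK (z₁ : V) y, (mem_perpPair.1 z₁.2).2, smul_zero, map_zero]
  · intro e
    have : polar Q (z₁ : V) (z₂ : V) = 1 := hz₁₂
    rw [e] at this
    exact zero_ne_one this

set_option maxHeartbeats 1000000 in
/-- the case of an anisotropic complement -/
theorem caseII (hS : Setting Q QK l) (hle : Le hS H) {g : oG Q} {v a : V} (h : Std QK H g v a) {o : oG Q}
    (ho : Root QK H v o) (ho1 : o ≠ 1) (hII : ∀ w, QK w = 0 → polar QK v w = 0 → polar QK a w = 0)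
    (hlarge : finrank K V = 4 → 3 ≤ finrank F K) : Full H v := by
  classical
  haveI := hS.finV
  haveI := hS.fin
  have hv := h.vc
  obtain ⟨y, hy, hvy⟩ := hS.partner h.v0 hv
  set W := perpPair QK v y with hW
  have haniso : ∀ x ∈ W, QK x = 0 → x = 0 := fun w hwW hw => by
    by_contra hw0
    have hall : ∀ x ∈ W, polar Q a x = 0 ∧ ∀ c : K, polar Q a (c • x) = 0 := fun x hx => by
      have h1 := hS.cone_span hv hy hvy hw0 hw hwW (LinearMap.ker (polarBilin Q a)) fun z hz hzc => by
        show polar Q a z = 0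
        rw [hS.polar_eq, hII z hzc (mem_perpPair.1 hz).1, map_zero]
      exact ⟨h1 x hx, fun c => h1 _ (Submodule.smul_mem _ c hx)⟩
    refine h.nin (hS.dperp fun z hz => hS.sep fun c => ?_)
    have hvz := hz v (Submodule.mem_span_singleton_self v)
    obtain ⟨d, hd, hze⟩ := hS.decomp hv hy hvy z
    rw [hvz, zero_smul, add_zero] at hze
    rw [mul_zero, map_zero, hze, polar_add_right, polar_smul_right, polar_comm QK a v, h.perp, smul_zero, zero_add,
      ← smul_eq_mul, ← polar_smul_right, ← hS.polar_eq]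
    exact (hall d hd).2 c
  have hm4 : finrank K V = 4 := by
    refine le_antisymm ?_ hS.four
    by_contra hlt
    have h1 := finrank_perpPair hv hy hvy
    obtain ⟨z, hz0, hz⟩ := exists_singular (restrictPair QK v y) (by omega)
    exact hz0 (Subtype.ext (haniso _ z.2 hz))
  have h5 := hlarge hm4
  obtain ⟨c₀, hc₀, hsplit⟩ := h.hyp
  set a₀ := (g⁻¹).1 (c₀ • v) with ha₀
  have hva₀ : polar QK v a₀ = 0 := hS.sep fun c => by
    rw [mul_zero, map_zero, ← smul_eq_mul, ← polar_smul_left, ← hS.polar_eq, ← polar_oG g, ha₀, oG_apply_inv]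
    obtain ⟨t, ht⟩ := h.dec _ (apply_mem_img (K := K) g v c)
    obtain ⟨s, hs⟩ := mem_one (K := K) ht
    rw [show g.1 (c • v) = s • v + t • a by rw [← hs]; abel, hS.polar_eq, polar_add_left, ← algebraMap_smul K t a,
      polar_smul_left, polar_smul_left, polar_smul_right, polar_smul_right, polar_self', hv, polar_comm QK a v, h.perp]
    simp
  obtain ⟨a', ha'W, ha₀e⟩ := hS.decomp hv hy hvy a₀
  rw [hva₀, zero_smul, add_zero] at ha₀e
  set α := polar QK y a₀
  have ha'0 : a' ≠ 0 := fun e => hc₀ (mem_img.2 ⟨α, by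
    rw [e, add_zero] at ha₀e
    rw [← ha₀e, ha₀, oG_apply_inv]⟩)
  have hva' := (mem_perpPair.1 ha'W).1
  set q := QK a' with hqd
  have hq : q ≠ 0 := fun e => ha'0 (haniso a' ha'W e)
  have hqa₀ : QK a₀ = q := by
    rw [ha₀e, map_add', map_smul', hv, polar_smul_left, hva']; simp [hqd]
  have hlq : l q = 0 := by rw [← hqa₀, ← hS.eq, ha₀, (g⁻¹).2, hS.cone hv]
  obtain ⟨d, hd0, hdW, had⟩ : ∃ d, d ≠ 0 ∧ d ∈ W ∧ polar QK a' d = 0 := by
    let L : W →ₗ[K] K := (polarBilin QK a').comp W.subtype
    have h1 := LinearMap.finrank_range_add_finrank_ker L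
    have h2 := Submodule.finrank_le (LinearMap.range L)
    rw [finrank_self] at h2
    have h3 : 2 ≤ finrank K W := hS.finrank_pair hv hy hvy
    obtain ⟨d, hdm, hd0⟩ := Submodule.exists_mem_ne_zero_of_ne_bot (p := LinearMap.ker L)
      (fun e => by rw [e, finrank_bot] at h1; omega)
    exact ⟨d, fun e => hd0 (Subtype.ext e), d.2, hdm⟩
  set δ := QK d / q with hδd
  have hQd : QK d = δ * q := by rw [hδd, div_mul_cancel₀ _ hq]
  have hbW : ∀ s : K, s • a' + d ∈ W := fun s => Submodule.add_mem _ (Submodule.smul_mem _ s ha'W) hdW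
  have hQb : ∀ s : K, QK (s • a' + d) = q * (δ + s * s) := fun s => by
    rw [map_add', map_smul', polar_smul_left, had, hQd, smul_zero, hqd]; ring
  have hbne : ∀ s : K, s • a' + d ≠ 0 := fun s e => by
    have := congrArg (polar QK a') e
    rw [polar_add_right, polar_smul_right, had, polar_self', smul_eq_mul] at this
    simp only [add_zero, polar, map_zero, sub_self, mul_eq_zero, hS.twoK, false_or] at this
    rcases this with h' | h'
    · rw [h', zero_smul, zero_add] at e; exact hd0 e
    · exact hq h'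
  have hden : ∀ s : K, δ + s * s ≠ 0 := fun s e => hbne s (haniso _ (hbW s) (by rw [hQb, e, mul_zero]))
  have hδ : δ ≠ 0 := by simpa using hden 0
  obtain ⟨s, hs⟩ := exists_rot hS.prime h5 hS.two hS.hl hq hlq hδ hden
  set φ := (δ - s * s) / (δ + s * s) with hφd
  set b := s • a' + d with hbd
  have hb : QK b ≠ 0 := by rw [hbd, hQb]; exact mul_ne_zero hq (hden s)
  set k := ⁅rO (v := a') hq, rO hb⁆ with hkd
  have hk : k ∈ commutator (oG QK) := Subgroup.commutator_mem_commutator (Subgroup.mem_top _) (Subgroup.mem_top _)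
  have hfix : k.1 v = v := by
    have h1 : polar QK a' v = 0 := by rw [polar_comm, hva']
    have h2 : polar QK b v = 0 := by rw [polar_comm]; exact (mem_perpPair.1 (hbW s)).1
    simp [hkd, commutatorElement_def, rO_inv, oG_mul_apply, rO_apply, polar_comm QK v, h1, h2]
  have hka : polar QK a' (k.1 a') = q * (4 * (φ * φ) - 2) := by
    have hab : polar QK a' b = 2 * s * q := by
      rw [hbd, polar_add_right, polar_smul_right, had, polar_self', smul_eq_mul, hqd]; ring
    have hqb : QK b = q * (δ + s * s) := hQb s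
    have hden' := hden s
    rw [hkd, commutatorElement_def, rO_inv, rO_inv]
    simp only [oG_mul_apply, rO_apply, polar_sub_left, polar_sub_right, polar_smul_left, polar_smul_right, polar_self',
      polar_comm QK b a', hab, hqb, smul_eq_mul, ← hqd, hφd]
    obtain ⟨D, hD⟩ : ∃ D, δ + s * s = D := ⟨_, rfl⟩
    have hδD : δ = D - s * s := by rw [← hD]; ring
    rw [hD] at hden' ⊢
    rw [hδD]
    field_simp
    ring
  have hlk : l (polar QK a₀ (k.1 a₀)) ≠ 0 := by
    have e1 : polar QK a₀ (k.1 a₀) = q * (4 * (φ * φ) - 2) := by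
      rw [ha₀e, map_add, map_smul, hfix, polar_add_left, polar_add_right, polar_add_right, hka, polar_smul_left,
        polar_smul_left, polar_smul_right, polar_smul_right, polar_self', hv, polar_comm QK a' v, hva']
      rw [show polar QK v (k.1 a') = polar QK (k.1 v) (k.1 a') by rw [hfix], polar_oG, hva']
      simp
    rw [e1, show q * (4 * (φ * φ) - 2) = (4 : F) • (q * (φ * φ)) - (2 : F) • q by
      simp only [Algebra.smul_def, map_ofNat]; ring, map_sub, map_smul, map_smul, hlq, smul_zero, sub_zero, smul_eq_mul]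
    refine mul_ne_zero ?_ hs
    rw [show (4 : F) = 2 * 2 by norm_num]
    exact mul_ne_zero hS.two hS.two
  -- the second image
  set g' := g * res hS k * g⁻¹ with hg'
  have hg'H : g' ∈ H := mul_mem (mul_mem h.gH (hle k hk)) (inv_mem h.gH)
  have hg'C : ∀ x ∈ img K g v, g'.1 x = x := fun x hx => by
    obtain ⟨c, rfl⟩ := mem_img.1 hx
    rw [hg', oG_mul_apply, oG_mul_apply, oG_inv_apply, res_apply, map_smul, hfix]
  set a₂ := g'.1 (c₀ • v) with ha₂
  have hτ : polar QK v a₂ ≠ 0 := fun e => hlk (by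
    have h1 : polar Q (c₀ • v) a₂ = 0 := by rw [hS.polar_eq, polar_smul_left, e, smul_zero, map_zero]
    rw [← polar_oG g⁻¹, ← ha₀, ha₂, hg', oG_mul_apply, oG_mul_apply, oG_inv_apply, ← ha₀, res_apply, hS.polar_eq] at h1
    exact h1)
  obtain ⟨β, hβ⟩ := hS.exists_one hτ
  have hb1 : polar Q (β • v) a₂ = 1 := by rw [hS.polar_eq, polar_smul_left, smul_eq_mul, hβ]
  have hdec : ∀ c ∈ img K g' v, ∃ t : F, c - t • a₂ ∈ line (K := K) F v := fun c hc => by
    obtain ⟨c', rfl⟩ := mem_img.1 hc
    obtain ⟨t, ht⟩ := hsplit c'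
    refine ⟨t, ?_⟩
    have := hg'C _ ht
    rw [map_sub, map_smul g'.1 t, ← ha₂] at this
    rw [this]
    exact Submodule.sub_mem _ (smul_mem_line v c') (Submodule.smul_mem _ t (smul_mem_line v c₀))
  have hne : polar QK v ((g'⁻¹).1 (β • v)) ≠ 0 := fun e => by
    have h0 : polar Q a₂ (β • v) = 0 := by
      rw [ha₂, ← polar_oG g'⁻¹, oG_inv_apply, hS.polar_eq, polar_smul_left, e, smul_zero, map_zero]
    rw [polar_comm, hb1] at h0
    exact one_ne_zero h0
  have hvv : ∀ c d : K, polar Q (c • v) (d • v) = 0 := fun c d => by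
    rw [hS.polar_eq, polar_smul_left, polar_smul_right, polar_self', hv]; simp
  obtain ⟨o₁, ho₁, hmv₁⟩ := Root.exists_moving hS hle h.v0 hv ho ho1 hv hne
  obtain ⟨c1, c2, c3⟩ := conj_root hS hg'H ho₁
  set o' := g' * o₁ * g'⁻¹
  have hrk : ∀ b ∈ line (K := K) F v, ∀ c ∈ img K g' v,
      polar Q b c = polar Q b a₂ * polar Q (β • v) c := fun b hb c hc => by
    obtain ⟨t, ht⟩ := hdec c hc
    obtain ⟨x, rfl⟩ := mem_one (K := K) hb
    obtain ⟨x', hx'⟩ := mem_one (K := K) ht
    rw [show c = x' • v + t • a₂ by rw [← hx']; abel, polar_add_right, polar_add_right, polar_smul_right (y := a₂),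
      polar_smul_right (y := a₂), hvv, hvv, hb1, smul_eq_mul, smul_eq_mul]
    ring
  have hgen : ∀ o₂, Root QK H v o₂ → ∃ (hz : Q (o₂.1 a₂ - a₂) = 0)
      (hw : polar Q (o₂.1 a₂ - a₂) (o'.1 (β • v) - β • v) = 0),
      sO hz hw ∈ H ∧ polar Q (β • v) (o'.1 (β • v) - β • v) = 0 := fun o₂ ho₂ =>
    rank_one c1 ho₂.mem (fun c hc => hS.img_sing hv hc) (line_sing hS hv) c2 (ho₂.line_props hS).1 c3
      (ho₂.line_props hS).2 (smul_mem_line v β) (apply_mem_img g' v c₀) hb1 hrk
  obtain ⟨u, hu⟩ : ∃ u : K, o'.1 (β • v) - β • v = u • v := by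
    obtain ⟨-, -, -, hb0w⟩ := hgen o ho
    obtain ⟨t, ht⟩ := hdec _ (c2 (β • v))
    obtain ⟨x, hx⟩ := mem_one (K := K) ht
    rw [show o'.1 (β • v) - β • v = x • v + t • a₂ by rw [← hx]; abel, polar_add_right, polar_smul_right (y := a₂), hb1,
      hvv, zero_add, smul_eq_mul, mul_one] at hb0w
    exact ⟨x, by rw [show o'.1 (β • v) - β • v = x • v + t • a₂ by rw [← hx]; abel, hb0w, zero_smul, add_zero]⟩
  have hu0 : u ≠ 0 := fun e => hmv₁ (by
    have h1 : o'.1 (β • v) = β • v := sub_eq_zero.1 (by rw [hu, e, zero_smul])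
    have := congrArg (g'⁻¹).1 h1
    rwa [oG_mul_apply, oG_mul_apply, oG_inv_apply] at this)
  set τ := polar QK v a₂
  obtain ⟨x₂, o₂, ho₂, hx₂, hx₂u⟩ : ∃ x₂ : K, ∃ o₂, Root QK H v o₂ ∧ o₂.1 a₂ - a₂ = x₂ • v ∧
      ∀ t : F, x₂ ≠ t • u := by
    choose ν hν using fun c : K => mem_one (ho.im hS (c • y))
    have hνv : ∀ x, o.1 x - x = ν (polar QK v x) • v := fun x => by
      rw [← hν]
      exact ho.eq_of hS (by rw [polar_smul_right, hvy, smul_eq_mul, mul_one])
    by_contra hcon
    push Not at hcon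
    have hall : ∀ x : K, ∃ t : F, x * ν (x * τ) = t • u := fun x => by
      rcases eq_or_ne x 0 with rfl | hx
      · exact ⟨0, by rw [zero_mul, zero_smul]⟩
      obtain ⟨k', hk', hkv⟩ := hS.torus hv hy hvy hx
      have hr := (hkv ▸ ho.conj hS hle hk' : Root QK H (x • v) _).smul hx
      refine hcon _ _ hr ?_
      have e : ((res hS k')⁻¹).1 a₂ = (k'⁻¹).1 a₂ := by rw [← map_inv]; rfl
      have e2 : polar QK v ((k'⁻¹).1 a₂) = x * τ := by
        rw [← polar_oG k', oG_apply_inv, hkv, polar_smul_left, smul_eq_mul]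
      have e3 : o.1 ((k'⁻¹).1 a₂) = (k'⁻¹).1 a₂ + ν (x * τ) • v := by
        rw [← e2, ← hνv]; abel
      rw [oG_mul_apply, oG_mul_apply, e, res_apply, e3, map_add, map_smul, hkv, oG_apply_inv, add_sub_cancel_left,
        smul_smul, mul_comm]
    let Φ : K →ₗ[F] K :=
      { toFun := fun x => ν (x * τ) / u
        map_add' := fun x x' => by
          have hadd : ν ((x + x') * τ) = ν (x * τ) + ν (x' * τ) := smul_left_injective K h.v0 (by
            show ν ((x + x') * τ) • v = (ν (x * τ) + ν (x' * τ)) • v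
            rw [add_smul, ← hν, ← hν, ← hν, add_mul, add_smul, map_add]
            abel)
          show ν ((x + x') * τ) / u = ν (x * τ) / u + ν (x' * τ) / u
          rw [hadd, add_div]
        map_smul' := fun t x => by
          have hsm : ν ((t • x) * τ) = t • ν (x * τ) := smul_left_injective K h.v0 (by
            show ν ((t • x) * τ) • v = (t • ν (x * τ)) • v
            rw [← hν, smul_assoc, ← hν, smul_mul_assoc, smul_assoc, map_smul o.1 t, smul_sub])
          show ν ((t • x) * τ) / u = t • (ν (x * τ) / u)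
          rw [hsm, smul_div_assoc] }
    have hΦ : Φ = 0 := eq_zero_of_self_mul hS.prime (by omega) hS.two Φ fun x => by
      obtain ⟨t, ht⟩ := hall x
      refine ⟨t, ?_⟩
      show x * (ν (x * τ) / u) = algebraMap F K t
      rw [← mul_div_assoc, ht, Algebra.smul_def, mul_div_cancel_right₀ _ hu0]
    refine ho1 (ext_oG fun x => ?_)
    have h0 : ν (polar QK v x) / u = 0 := by
      have := LinearMap.congr_fun hΦ (polar QK v x / τ)
      simpa [Φ, div_mul_cancel₀ _ hτ] using this
    have h1 := hνv x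
    rw [(div_eq_zero_iff.1 h0).resolve_right hu0, zero_smul, sub_eq_zero] at h1
    rw [h1, oG_one_apply]
  obtain ⟨hz, hzw, hmem, -⟩ := hgen o₂ ho₂
  have hx0 : x₂ ≠ 0 := fun e => hx₂u 0 (by rw [e, zero_smul])
  set B := u / x₂ with hBd
  have hB : ∀ t : F, algebraMap F K t ≠ B := fun t ht => by
    have hu' : u = t • x₂ := by rw [Algebra.smul_def, ht, hBd, div_mul_cancel₀ _ hx0]
    have ht0 : t ≠ 0 := fun e => hu0 (by rw [hu', e, zero_smul])
    exact hx₂u t⁻¹ (by rw [hu', inv_smul_smul₀ ht0])
  have hel : sO (hS.cone hv x₂) (hvv x₂ u) ∈ H := by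
    convert hmem using 2
    all_goals first | exact hx₂.symm | exact hu.symm
  have plB : ∀ c : K, Pl H (c • v) ((c * B) • v) := fun c => by
    refine pl_of_squares hS.two (hS.cone hv c) (hS.cone hv _) (hvv _ _) fun t ht h₁ h₂ => ?_
    rcases eq_or_ne c 0 with rfl | hc
    · have e : sO h₁ h₂ = 1 := ext_oG fun x => by rw [sO_apply, oG_one_apply]; simp [polar]
      exact e ▸ one_mem _
    have hlam : (t • c) / x₂ ≠ 0 := div_ne_zero (smul_ne_zero ht hc) hx0
    obtain ⟨k', hk', hkv⟩ := hS.torus hv hy hvy hlam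
    have h1 := mul_mem (mul_mem (hle k' hk') hel) (inv_mem (hle k' hk'))
    rw [conj_sO] at h1
    convert h1 using 2
    · rw [res_apply, map_smul, hkv, smul_smul, mul_div_cancel₀ _ hx0, smul_assoc]
    · rw [res_apply, map_smul, hkv, smul_smul, ← smul_assoc, hBd, Algebra.smul_def, Algebra.smul_def]
      congr 1
      field_simp
  have hsq := sq_notMem hS.prime (by omega) hB
  obtain ⟨κ, hκ1, hκB, hκBB⟩ : ∃ κ : K, l κ = 0 ∧ l (κ * B) = 0 ∧ l (κ * (B * B)) ≠ 0 := by
    obtain ⟨ψ, hψ1, hψ2⟩ := Submodule.exists_dual_map_eq_bot_of_notMem hsq inferInstance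
    obtain ⟨κ, hκ⟩ := hS.rep ψ
    have hz1 : ∀ x ∈ Submodule.span F ({1, B} : Set K), ψ x = 0 := fun x hx =>
      (Submodule.mem_bot F).1 (hψ2 ▸ Submodule.mem_map_of_mem hx)
    refine ⟨κ, ?_, ?_, ?_⟩
    · rw [← one_mul κ, hκ]; exact hz1 _ (Submodule.subset_span (Or.inl rfl))
    · rw [mul_comm, hκ]; exact hz1 _ (Submodule.subset_span (Or.inr rfl))
    · rw [mul_comm, hκ]; exact hψ1
  have hκ0 : κ ≠ 0 := fun e => hκBB (by rw [e, zero_mul, map_zero])
  have he : Q v = 0 := by simpa using hS.cone hv 1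
  have hy' : ∀ z ∈ W, κ • (y + z + (-QK z) • v) ∈ tS H he := fun z hz => by
    obtain ⟨hvz, hyz⟩ := mem_perpPair.1 hz
    set e := y + z + (-QK z) • v with hed
    have hve : polar QK v e = 1 := by
      rw [hed, polar_add_right, polar_add_right, polar_smul_right, hvy, hvz, polar_self', hv]; simp
    have hec : QK e = 0 := by
      rw [hed, map_add', map_add', map_smul', hv, hy, hyz, polar_add_left, polar_smul_right, polar_smul_right,
        polar_comm QK y v, hvy, polar_comm QK z v, hvz]
      simp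
    have he0 : e ≠ 0 := fun e' => by rw [e'] at hve; simp [polar] at hve
    obtain ⟨k', hk', hk'v⟩ := hS.transVec h.v0 hv he0 hec
    have h1 : Pl H ((κ * B) • e) (κ • e) := by
      have := pl_res hS hle (plB κ) hk'
      rw [map_smul, map_smul, hk'v] at this
      exact this.symm
    refine mem_tS (he := he) ((by simpa using plB 1 : Pl H v (B • v)).rule h1 ?_ ?_ ?_ ?_)
    · rw [hS.polar_eq, polar_smul_right, hve, smul_eq_mul, mul_one, hκB]
    · rw [hS.polar_eq, polar_smul_right, hve, smul_eq_mul, mul_one, hκ1]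
    · rw [hS.polar_eq, polar_smul_left, polar_smul_right, hve, smul_eq_mul, smul_eq_mul, mul_one, mul_comm, hκB]
    · rw [hS.polar_eq, polar_smul_left, polar_smul_right, hve, smul_eq_mul, smul_eq_mul, mul_one,
        mul_left_comm]
      exact hκBB
  have hA : ∀ z ∈ W, κ • z + (-(κ * QK z)) • v ∈ tS H he := fun z hz => by
    have h0 := hy' 0 (Submodule.zero_mem _)
    rw [map_zero, neg_zero, zero_smul, add_zero, add_zero] at h0
    have := (tS H he).sub_mem (hy' z hz) h0
    rwa [show κ • (y + z + (-QK z) • v) - κ • y = κ • z + (-(κ * QK z)) • v by module] at this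
  have hV0 : ∀ x ∈ W, x ∈ tS H he := fun x hx => by
    have hzW := Submodule.smul_mem W κ⁻¹ hx
    have h1 := (tS H he).sub_mem (hA _ hzW) (hA _ (Submodule.neg_mem _ hzW))
    rw [QuadraticMap.map_neg, smul_neg, smul_inv_smul₀ hκ0] at h1
    refine ((tS H he).smul_mem_iff hS.two).1 ?_
    convert h1 using 1
    rw [two_smul]
    abel
  have hKv : ∀ c : K, c • v ∈ tS H he := fun c => by
    rcases eq_or_ne c 0 with rfl | hc
    · rw [zero_smul]; exact Submodule.zero_mem _
    obtain ⟨z, h1, h2, hz⟩ := hS.value hv hy hvy (c := -c / κ) (div_ne_zero (neg_ne_zero.2 hc) hκ0)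
    have hzW : z ∈ W := mem_perpPair.2 ⟨h1, h2⟩
    have h3 := (tS H he).sub_mem (hA z hzW) (hV0 _ (Submodule.smul_mem W κ hzW))
    rwa [add_sub_cancel_left, hz, mul_div_cancel₀ _ hκ0, neg_neg] at h3
  exact full_of_complement hS hle hv h.v0 hy hvy he hKv hV0

/-- some rotation has its first coordinate squared outside a subfield of index two -/
theorem exists_sq_out [Fintype F] [Fintype K] (hr : finrank F K = 2) (h2 : (2 : K) ≠ 0) {δ : K} (hδ : δ ≠ 0)
    (hden : ∀ s : K, δ + s * s ≠ 0) :
    ∃ s : K, ∀ t : F, algebraMap F K t ≠ (δ - s * s) / (δ + s * s) * ((δ - s * s) / (δ + s * s)) := by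
  classical
  by_contra hcon
  push Not at hcon
  choose t ht using hcon
  set P := (Finset.univ : Finset K).filter fun s => s ≠ 0 ∧ s * s ≠ δ with hP
  have hP3 : Fintype.card K ≤ P.card + 3 := by
    rw [← Finset.card_univ, ← Finset.card_filter_add_card_filter_not (fun s : K => s ≠ 0 ∧ s * s ≠ δ) (s := Finset.univ)]
    refine Nat.add_le_add_left ?_ _
    by_cases hsq : ∃ s₀ : K, s₀ * s₀ = δ
    · obtain ⟨s₀, hs₀⟩ := hsq
      refine le_trans (Finset.card_le_card (t := {0, s₀, -s₀}) fun s hs => ?_) Finset.card_le_three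
      simp only [Finset.mem_filter, not_and_or, not_not] at hs
      simp only [Finset.mem_insert, Finset.mem_singleton]
      rcases hs.2 with h | h
      · exact Or.inl h
      · exact Or.inr (mul_self_eq_mul_self_iff.1 (h.trans hs₀.symm))
    · refine le_trans (Finset.card_le_card (t := {0}) fun s hs => ?_) (by simp)
      simp only [Finset.mem_filter, not_and_or, not_not] at hs
      simp only [Finset.mem_singleton]
      exact hs.2.resolve_right fun h => hsq ⟨s, h⟩
  have hval : ∀ s ∈ P, t s ≠ 0 ∧ t s ≠ 1 := fun s hs => by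
    obtain ⟨-, hs0, hsd⟩ := Finset.mem_filter.1 hs
    have d1 := hden s
    refine ⟨fun e => ?_, fun e => ?_⟩
    · have h1 := ht s
      rw [e, map_zero, eq_comm, mul_self_eq_zero, div_eq_zero_iff, or_iff_left d1, sub_eq_zero] at h1
      exact hsd h1.symm
    · have h1 := ht s
      rw [e, map_one, eq_comm, mul_self_eq_one_iff, div_eq_iff d1, div_eq_iff d1] at h1
      rcases h1 with h1 | h1
      · have : (2 : K) * (s * s) = 0 := by linear_combination -h1
        exact hs0 (mul_self_eq_zero.1 ((mul_eq_zero.1 this).resolve_left h2))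
      · have : (2 : K) * δ = 0 := by linear_combination h1
        exact hδ ((mul_eq_zero.1 this).resolve_left h2)
  have hfib : ∀ b ∈ P.image t, (P.filter fun s => t s = b).card ≤ 4 := by
    intro b hb
    obtain ⟨s₀, hs₀, rfl⟩ := Finset.mem_image.1 hb
    have hs0 : s₀ ≠ 0 := (Finset.mem_filter.1 hs₀).2.1
    refine le_trans (Finset.card_le_card (t := {s₀, -s₀, δ / s₀, -(δ / s₀)}) fun s hs => ?_) Finset.card_le_four
    have e1 := ht s
    rw [(Finset.mem_filter.1 hs).2, ht s₀] at e1
    have d1 := hden s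
    have d2 := hden s₀
    rw [div_mul_div_comm, div_mul_div_comm, div_eq_div_iff (mul_ne_zero d2 d2) (mul_ne_zero d1 d1)] at e1
    have e2 : (4 * δ) * (((s - s₀) * (s + s₀)) * ((s * s₀ - δ) * (s * s₀ + δ))) = 0 := by linear_combination -e1
    have h4δ : (4 : K) * δ ≠ 0 := by
      rw [show (4 : K) = 2 * 2 by norm_num]
      exact mul_ne_zero (mul_ne_zero h2 h2) hδ
    simp only [mul_eq_zero (a := 4 * δ), h4δ, false_or, mul_eq_zero] at e2
    simp only [Finset.mem_insert, Finset.mem_singleton]
    rcases e2 with (h | h) | (h | h)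
    · exact Or.inl (sub_eq_zero.1 h)
    · exact Or.inr (Or.inl (eq_neg_of_add_eq_zero_left h))
    · exact Or.inr (Or.inr (Or.inl (by rw [eq_div_iff hs0]; linear_combination h)))
    · exact Or.inr (Or.inr (Or.inr (by rw [← neg_div, eq_div_iff hs0]; linear_combination h)))
  have hc1 := Finset.card_le_mul_card_image P 4 hfib
  have hc2 : (P.image t).card + 2 ≤ Fintype.card F := by
    have hd : Disjoint (P.image t) ({0, 1} : Finset F) := Finset.disjoint_left.2 fun b hb hb' => by
      obtain ⟨s, hs, rfl⟩ := Finset.mem_image.1 hb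
      simp only [Finset.mem_insert, Finset.mem_singleton] at hb'
      exact hb'.elim (hval s hs).1 (hval s hs).2
    have := Finset.card_le_univ (P.image t ∪ {0, 1})
    rwa [Finset.card_union_of_disjoint hd, Finset.card_pair zero_ne_one] at this
  have hq : Fintype.card K = Fintype.card F * Fintype.card F := by
    rw [Module.card_eq_pow_finrank (K := F) (V := K), hr, pow_two]
  generalize Fintype.card F = m at hc2 hq
  have h5 : m * m + 5 ≤ 4 * m := by omega
  nlinarith [two_mul_le_add_sq m 2]

/-- with degree two a root element gives the whole long root group of its line -/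
theorem two_plane (hS : Setting Q QK l) (hle : Le hS H) (hr : finrank F K = 2) {v y : V} (hv : QK v = 0)
    (hy : QK y = 0) (hvy : polar QK v y = 1) {o : oG Q} (ho : Root QK H v o) (ho1 : o ≠ 1) (c d : K) :
    Pl H (c • v) (d • v) := by
  haveI := hS.finV
  haveI := hS.fin
  obtain ⟨ε, hε, hε0⟩ := Submodule.exists_mem_ne_zero_of_ne_bot (p := LinearMap.ker l) (fun e => by
    have h1 := LinearMap.finrank_range_add_finrank_ker l
    have h2 := Submodule.finrank_le (LinearMap.range l)
    rw [e, finrank_bot] at h1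
    rw [finrank_self] at h2
    omega)
  rw [LinearMap.mem_ker] at hε
  obtain ⟨κ, hκ⟩ := hS.exists_one hε0
  obtain ⟨p, hp⟩ := hS.exists_one (one_ne_zero (α := K))
  rw [mul_one] at hp
  set p₁ := p - l (κ * p) • ε with hp₁
  have hl1 : l p₁ = 1 := by rw [hp₁, map_sub, map_smul, hε, smul_zero, sub_zero, hp]
  have hl2 : l (κ * p₁) = 0 := by rw [hp₁, mul_sub, mul_smul_comm, map_sub, map_smul, hκ, smul_eq_mul, mul_one, sub_self]
  have hspan : ∀ c : K, ∃ a b : F, a • (1 : K) + b • κ = c := fun c => by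
    have hlt : (F ∙ (1 : K)) < Submodule.span F ({1, κ} : Set K) :=
      lt_of_le_of_ne (Submodule.span_mono (by simp)) fun e => by
        obtain ⟨s, hs⟩ := Submodule.mem_span_singleton.1 (e.symm ▸ Submodule.subset_span (Or.inr rfl) : κ ∈ (F ∙ (1 : K)))
        rw [← hs, smul_mul_assoc, one_mul, map_smul, hε, smul_zero] at hκ
        exact zero_ne_one hκ
    have h1 := Submodule.finrank_lt_finrank_of_lt hlt
    rw [finrank_span_singleton (one_ne_zero (α := K))] at h1
    have htop : Submodule.span F ({1, κ} : Set K) = ⊤ := Submodule.eq_top_of_finrank_eq (by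
      have := Submodule.finrank_le (Submodule.span F ({1, κ} : Set K))
      omega)
    exact Submodule.mem_span_pair.1 (htop ▸ Submodule.mem_top)
  have hdec : ∀ c : K, c = l c • p₁ + l (κ * c) • ε := fun c => hS.sep fun x => by
    obtain ⟨a, b, rfl⟩ := hspan x
    simp only [add_mul, smul_mul_assoc, one_mul, mul_add, mul_smul_comm, map_add, map_smul, hl1, hl2, hε, hκ,
      smul_eq_mul]
    ring
  choose ν hν using fun c : K => mem_one (ho.im hS (c • y))
  have hνv : ∀ x, o.1 x - x = ν (polar QK v x) • v := fun x => by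
    rw [← hν]
    exact ho.eq_of hS (by rw [polar_smul_right, hvy, smul_eq_mul, mul_one])
  have inj : ∀ a b : K, a • v = b • v → a = b := fun a b e => smul_left_injective K
    (fun e' : v = 0 => by rw [e'] at hvy; simp [polar] at hvy) e
  have hlin : ∀ (a b : F) (c c' : K), ν (a • c + b • c') = a • ν c + b • ν c' := fun a b c c' => inj _ _ (by
    rw [add_smul, smul_assoc, smul_assoc, ← hν, ← hν, ← hν, add_smul, smul_assoc, smul_assoc, map_add,
      map_smul o.1 a, map_smul o.1 b, smul_sub, smul_sub]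
    abel)
  have hskew : ∀ c c' : K, l (c * ν c') + l (c' * ν c) = 0 := fun c c' => by
    have e : ∀ c, o.1 (c • y) = c • y + ν c • v := fun c => by rw [← hν]; abel
    have h1 := polar_oG o (c • y) (c' • y)
    rw [e, e, polar_add_left, polar_add_right, polar_add_right, hS.polar_eq (c • y) (ν c' • v),
      hS.polar_eq (ν c • v) (c' • y), hS.polar_eq (ν c • v) (ν c' • v)] at h1
    simp only [polar_smul_left, polar_smul_right, polar_self', hv, hvy, polar_comm QK y v, smul_eq_mul, mul_zero,
      mul_one, map_zero, add_zero] at h1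
    rw [mul_comm (ν c') c, mul_comm c' (ν c)] at *
    linear_combination h1
  have hdiag : ∀ c : K, l (c * ν c) = 0 := fun c =>
    (mul_eq_zero.1 (show (2 : F) * l (c * ν c) = 0 by linear_combination hskew c c)).resolve_left hS.two
  obtain ⟨t, b₁, hνε⟩ := hspan (ν ε)
  obtain ⟨a₂, b₂, hνp⟩ := hspan (ν p₁)
  have hb₁ : b₁ = 0 := by
    have := hdiag ε
    rw [← hνε, mul_add, mul_smul_comm, mul_smul_comm, mul_one, mul_comm ε κ, map_add, map_smul, map_smul, hε, hκ] at this
    simpa using this
  have ha₂ : a₂ = 0 := by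
    have := hdiag p₁
    rw [← hνp, mul_add, mul_smul_comm, mul_smul_comm, mul_one, mul_comm p₁ κ, map_add, map_smul, map_smul, hl1, hl2] at this
    simpa using this
  have hb₂ : b₂ = -t := by
    have := hskew p₁ ε
    rw [← hνε, ← hνp, hb₁, ha₂, zero_smul, zero_smul, add_zero, zero_add, mul_smul_comm, mul_smul_comm, mul_one,
      mul_comm ε κ, map_smul, map_smul, hl1, hκ] at this
    simp only [smul_eq_mul, mul_one] at this
    linear_combination this
  have hνf : ∀ c : K, ν c = l c • (-t) • κ + l (κ * c) • t • (1 : K) := fun c => by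
    conv_lhs => rw [hdec c]
    rw [hlin, ← hνε, ← hνp, hb₁, ha₂, hb₂, zero_smul, zero_smul, add_zero, zero_add]
  have hqv : Q v = 0 := by simpa using hS.cone hv 1
  set B : K := t • κ with hB
  have hvB : polar Q v (B • v) = 0 := by rw [hS.polar_eq, polar_smul_right, polar_self', hv]; simp
  have ho' : sO hqv hvB = o := ext_oG fun x => by
    have h1 := hνv x
    rw [sub_eq_iff_eq_add] at h1
    rw [h1, hνf, sO_apply, hS.cone hv]
    have e1 : polar Q x (B • v) = t * l (κ * polar QK v x) := by
      rw [hS.polar_eq, polar_smul_right, polar_comm QK x v, smul_eq_mul, hB, smul_mul_assoc, map_smul, smul_eq_mul]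
    have e2 : polar Q x v = l (polar QK v x) := by rw [hS.polar_eq, polar_comm QK x v]
    rw [e1, e2, hB]
    simp only [zero_mul, neg_zero, zero_smul, add_zero, add_smul, smul_assoc, one_smul]
    module
  have ht : t ≠ 0 := fun e => ho1 (ext_oG fun x => by
    rw [← sub_eq_zero, oG_one_apply, hνv, hνf, e]
    simp)
  have hel : sO hqv hvB ∈ H := ho'.symm ▸ ho.mem
  have plB : Pl H v (B • v) := by
    refine pl_of_squares hS.two hqv (hS.cone hv _) hvB fun s hs h₁ h₂ => ?_
    obtain ⟨k, hk, hkv⟩ := hS.torus hv hy hvy (c := algebraMap F K s) (by simpa using hs)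
    have h3 := mul_mem (mul_mem (hle k hk) hel) (inv_mem (hle k hk))
    rw [conj_sO] at h3
    convert h3 using 2
    · rw [res_apply, hkv, algebraMap_smul]
    · rw [res_apply, map_smul, hkv, algebraMap_smul, smul_comm]
  have hall : ∀ c : K, c • v ∈ Submodule.span F ({v, B • v} : Set V) := fun c => by
    obtain ⟨a, b, rfl⟩ := hspan c
    refine Submodule.mem_span_pair.2 ⟨a, b / t, ?_⟩
    rw [hB, add_smul, smul_assoc a, one_smul, smul_assoc b, smul_assoc t, ← mul_smul, div_mul_cancel₀ _ ht]
  exact plB.span (hall c) (hall d)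

/-- the case of degree two and Witt index one -/
theorem caseTwo (hS : Setting Q QK l) (hle : Le hS H) (hr : finrank F K = 2) (hell : Elliptic QK) {g : oG Q} {v a : V}
    (h : Std QK H g v a) {o : oG Q} (ho : Root QK H v o) (ho1 : o ≠ 1) : Full H v := by
  classical
  haveI := hS.finV
  haveI := hS.fin
  have hv := h.vc
  obtain ⟨y, hy, hvy⟩ := hS.partner h.v0 hv
  have plv := two_plane hS hle hr hv hy hvy ho ho1
  have he : Q v = 0 := by simpa using hS.cone hv 1
  have hKv : ∀ c : K, c • v ∈ tS H he := fun c => mem_tS (by simpa using plv 1 c)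
  have stab : ∀ {k : oG QK}, k ∈ commutator (oG QK) → k.1 v = v → ∀ z ∈ tS H he, k.1 z ∈ tS H he := by
    intro k hk hkv z hz
    refine ⟨?_, fun s hs => ?_⟩
    · have := polar_oG (res hS k) v z
      rwa [res_apply, res_apply, hkv, hz.1] at this
    · have h1 := mul_mem (mul_mem (hle k hk) (hz.2 s (polar_perp_smul hz.1 s))) (inv_mem (hle k hk))
      rw [conj_sO] at h1
      convert h1 using 2
      · exact hkv.symm
      · rw [res_apply, ← algebraMap_smul K s z, map_smul, algebraMap_smul]
  -- a vector of the complement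
  obtain ⟨c₁, hc₁⟩ := mem_img.1 h.vm
  obtain ⟨c₂, hc₂⟩ := mem_img.1 h.am
  have hat : a ∈ tS H he := by
    have := (plv c₁ c₂).conj h.gH
    rw [hc₁, hc₂] at this
    exact mem_tS this
  obtain ⟨w, hwW, hae⟩ := hS.decomp hv hy hvy a
  rw [h.perp, zero_smul, add_zero] at hae
  have hwt : w ∈ tS H he := by
    have := (tS H he).sub_mem hat (hKv (polar QK y a))
    rwa [show a - polar QK y a • v = w by conv_lhs => arg 1; rw [hae]
                                          abel] at this
  have hw0 : w ≠ 0 := fun e => h.nin (Submodule.mem_span_singleton.2 ⟨polar QK y a, by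
    conv_rhs => rw [hae, e, add_zero]⟩)
  set W := perpPair QK v y with hW
  have haniso : ∀ x ∈ W, QK x = 0 → x = 0 := fun x hx hx0 => by
    obtain ⟨c, rfl⟩ := mem_one (hell v x h.v0 hv hx0 (mem_perpPair.1 hx).1)
    have := (mem_perpPair.1 hx).2
    rw [polar_smul_right, polar_comm QK y v, hvy, smul_eq_mul, mul_one] at this
    rw [this, zero_smul]
  obtain ⟨d, hd0, hdW, hwd⟩ : ∃ d, d ≠ 0 ∧ d ∈ W ∧ polar QK w d = 0 := by
    let L : W →ₗ[K] K := (polarBilin QK w).comp W.subtype
    have h1 := LinearMap.finrank_range_add_finrank_ker L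
    have h2 := Submodule.finrank_le (LinearMap.range L)
    rw [finrank_self] at h2
    have h3 : 2 ≤ finrank K W := hS.finrank_pair hv hy hvy
    obtain ⟨d, hdm, hd0⟩ := Submodule.exists_mem_ne_zero_of_ne_bot (p := LinearMap.ker L)
      (fun e => by rw [e, finrank_bot] at h1; omega)
    exact ⟨d, fun e => hd0 (Subtype.ext e), d.2, hdm⟩
  have hq : QK w ≠ 0 := fun e => hw0 (haniso w hwW e)
  set δ := QK d / QK w with hδd
  have hQd : QK d = δ * QK w := by rw [hδd, div_mul_cancel₀ _ hq]
  have hbW : ∀ s : K, s • w + d ∈ W := fun s => Submodule.add_mem _ (Submodule.smul_mem _ s hwW) hdW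
  have hQb : ∀ s : K, QK (s • w + d) = QK w * (δ + s * s) := fun s => by
    rw [map_add', map_smul', polar_smul_left, hwd, hQd, smul_zero]; ring
  have hden : ∀ s : K, δ + s * s ≠ 0 := fun s e => by
    have h0 := haniso _ (hbW s) (by rw [hQb, e, mul_zero])
    have h1 := congrArg (polar QK w) h0
    rw [polar_add_right, polar_smul_right, hwd, polar_self', add_zero, smul_eq_mul] at h1
    have hs0 : s = 0 := by simpa [hS.twoK, hq, polar] using h1
    rw [hs0, zero_smul, zero_add] at h0
    exact hd0 h0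
  have hδ : δ ≠ 0 := by simpa using hden 0
  have hrot : ∀ s : K, ∃ k ∈ commutator (oG QK), k.1 v = v ∧
      k.1 w = (2 * ((δ - s * s) / (δ + s * s) * ((δ - s * s) / (δ + s * s))) - 1) • w +
        (2 * ((δ - s * s) / (δ + s * s)) * (2 * s / (δ + s * s))) • d := fun s => by
    have hb : QK (s • w + d) ≠ 0 := by rw [hQb]; exact mul_ne_zero hq (hden s)
    refine ⟨⁅rO (v := w) hq, rO hb⁆, Subgroup.commutator_mem_commutator (Subgroup.mem_top _) (Subgroup.mem_top _),
      ?_, ?_⟩
    · have h1 : polar QK w v = 0 := by rw [polar_comm]; exact (mem_perpPair.1 hwW).1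
      have h2 : polar QK (s • w + d) v = 0 := by rw [polar_comm]; exact (mem_perpPair.1 (hbW s)).1
      simp [commutatorElement_def, rO_inv, oG_mul_apply, rO_apply, polar_comm QK v, h1, h2]
    · have hden' := hden s
      rw [commutatorElement_def, rO_inv, rO_inv]
      simp only [oG_mul_apply, rO_apply, hQb, polar_add_left, polar_add_right, polar_sub_left, polar_sub_right,
        polar_smul_left, polar_smul_right, polar_self', hQd, polar_comm QK d w, hwd, smul_eq_mul]
      obtain ⟨D, hD⟩ : ∃ D, δ + s * s = D := ⟨_, rfl⟩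
      have hδD : δ = D - s * s := by rw [← hD]; ring
      rw [hD] at hden' ⊢
      rw [hδD]
      match_scalars <;> field_simp <;> ring
  haveI := Fintype.ofFinite K
  haveI := Fintype.ofFinite F
  obtain ⟨s, hs⟩ := exists_sq_out hr hS.twoK hδ hden
  obtain ⟨k, hk, hkv, hkw⟩ := hrot s
  obtain ⟨k', hk', hkv', hkw'⟩ := hrot (-s)
  set φ := (δ - s * s) / (δ + s * s) with hφ
  have hlam : (2 * (2 * (φ * φ) - 1)) • w ∈ tS H he := by
    have h1 := (tS H he).add_mem (stab hk hkv w hwt) (stab hk' hkv' w hwt)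
    rw [hkw, hkw', neg_mul_neg, ← hφ] at h1
    convert h1 using 1
    module
  have hKw : ∀ c : K, c • w ∈ tS H he := fun c => by
    set S : Submodule F K := (tS H he).comap ((LinearMap.toSpanSingleton K V w).restrictScalars F) with hSdef
    have h1 : (1 : K) ∈ S := show (1 : K) • w ∈ tS H he by rw [one_smul]; exact hwt
    have hlt : (F ∙ (1 : K)) < S := lt_of_le_of_ne ((Submodule.span_singleton_le_iff_mem _ _).2 h1) fun e => by
      have h2 : 2 * (2 * (φ * φ) - 1) ∈ (F ∙ (1 : K)) := e.symm ▸ (show _ ∈ S from hlam)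
      obtain ⟨r, hr'⟩ := Submodule.mem_span_singleton.1 h2
      refine hs ((r + 2) / 4) ?_
      rw [← Algebra.algebraMap_eq_smul_one] at hr'
      rw [map_div₀, map_add, hr', map_ofNat, map_ofNat, div_eq_iff (by
        rw [show (4 : K) = 2 * 2 by norm_num]; exact mul_ne_zero hS.twoK hS.twoK)]
      ring
    have h2 := Submodule.finrank_lt_finrank_of_lt hlt
    rw [finrank_span_singleton (one_ne_zero (α := K))] at h2
    have htop : S = ⊤ := Submodule.eq_top_of_finrank_eq (by have := Submodule.finrank_le S; omega)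
    exact (htop ▸ Submodule.mem_top : c ∈ S)
  have hKd : ∀ c : K, c • d ∈ tS H he := fun c => by
    have hs0 : s ≠ 0 := fun e => hs 1 (by rw [hφ, e]; simp [hδ])
    have hφ0 : φ ≠ 0 := fun e => hs 0 (by rw [map_zero, e, mul_zero])
    have hμ : 2 * φ * (2 * s / (δ + s * s)) ≠ 0 :=
      mul_ne_zero (mul_ne_zero hS.twoK hφ0) (div_ne_zero (mul_ne_zero hS.twoK hs0) (hden s))
    set μ := 2 * φ * (2 * s / (δ + s * s))
    have h1 := (tS H he).sub_mem (stab hk hkv _ (hKw (c / μ))) (hKw (c / μ * (2 * (φ * φ) - 1)))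
    rw [map_smul, hkw, smul_add, smul_smul, smul_smul, add_sub_cancel_left, div_mul_cancel₀ _ hμ] at h1
    exact h1
  have hWtop : W ≤ Submodule.span K ({w, d} : Set V) := by
    refine ge_of_eq (Submodule.eq_of_le_of_finrank_le (Submodule.span_le.2 ?_) ?_)
    · rintro x (rfl | rfl); exacts [hwW, hdW]
    · have h1 : (K ∙ w) < Submodule.span K ({w, d} : Set V) :=
        lt_of_le_of_ne (Submodule.span_mono (by simp)) fun e => by
          obtain ⟨r, hr'⟩ := mem_one (e.symm ▸ Submodule.subset_span (Or.inr rfl) : d ∈ K ∙ w)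
          rw [hr', polar_smul_right, polar_self', smul_eq_mul] at hwd
          have : r = 0 := by simpa [hS.twoK, hq] using hwd
          exact hd0 (by rw [hr', this, zero_smul])
      have h2 := Submodule.finrank_lt_finrank_of_lt h1
      rw [finrank_span_singleton hw0] at h2
      have h3 : finrank K V ≤ finrank K W + 2 ∧ finrank K W + 2 ≤ finrank K V := by
        have := finrank_perpPair hv hy hvy
        have : finrank K W = finrank K (perpPair QK v y) := rfl
        omega
      have h4 : finrank K V ≤ 4 := by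
        by_contra hlt
        obtain ⟨z, hz0, hz⟩ := exists_singular (restrictPair QK v y) (by
          have : finrank K W = finrank K (perpPair QK v y) := rfl
          omega)
        exact hz0 (Subtype.ext (haniso _ z.2 hz))
      omega
  have hV0 : ∀ x ∈ W, x ∈ tS H he := fun x hx => by
    obtain ⟨c, c', hxe⟩ := mem_pair (hWtop hx)
    rw [hxe]
    exact add_mem (hKw c) (hKd c')
  exact full_of_complement hS hle hv h.v0 hy hvy he hKv hV0

/-- an overgroup with an element that is not semilinear contains all Siegel transformations -/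
theorem eo_le_of_nonsemilinear (hS : Setting Q QK l) (hQ : (polarBilin Q).Nondegenerate) (hle : Le hS H) {g : oG Q}
    (hg : g ∈ H) (hnl : ∃ (k : K) (x : V), g.1 (k • x) ∉ K ∙ g.1 x) : eo Q ≤ H := by
  haveI := hS.finV
  obtain ⟨g, v, a, h⟩ := exists_std hS hle hg hnl
  obtain ⟨o, ho, ho1⟩ := h.exists_root hS hle
  have hfull : Full H v := by
    by_cases hI : ∃ w, QK w = 0 ∧ polar QK v w = 0 ∧ polar QK a w ≠ 0
    · obtain ⟨w, h1, h2, h3⟩ := hI
      exact caseI hS hle h ho ho1 h1 h2 h3
    · push Not at hI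
      by_cases hlarge : finrank K V = 4 → 3 ≤ finrank F K
      · exact caseII hS hle h ho ho1 hI hlarge
      · rw [Classical.not_imp] at hlarge
        have h2 := hS.prime.two_le
        exact caseTwo hS hle (by omega) ((hS.big hlarge.1).resolve_left hlarge.2) h ho ho1
  obtain ⟨y, hy, hvy⟩ := hS.partner h.v0 h.vc
  obtain ⟨κ, hκ⟩ := hS.exists_one (one_ne_zero (α := K))
  have hκ0 : κ ≠ 0 := fun e => by rw [e, zero_mul, map_zero] at hκ; exact zero_ne_one hκ
  have hy0 : y ≠ 0 := fun e => by rw [e] at hvy; simp [polar] at hvy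
  obtain ⟨k, hk, hkv⟩ := hS.transVec h.v0 h.vc (smul_ne_zero hκ0 hy0) (by rw [map_smul', hy, mul_zero])
  have hn : 3 ≤ finrank F V := by
    have h1 := Module.finrank_mul_finrank F K V
    have h2 := Nat.mul_le_mul hS.prime.two_le hS.four
    omega
  refine eo_le hQ hn hfull (f := κ • y) ?_ ?_
  · have := hfull.conj (hle k hk)
    rwa [res_apply, hkv] at this
  · rw [hS.polar_eq, polar_smul_right, hvy, smul_eq_mul, hκ]
    exact one_ne_zero

end Cfsg.Agent.ClassicalMax.ExtOrth
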