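import Cfsg.Agent.ClassicalMax.ExtOrth.Core

/-!
Reduction of a non-semilinear element of an overgroup to an image `U v + F y` of the line `K v`, for a hyperplane `U`.
-/

set_option autoImplicit false
set_option linter.unusedSectionVars false
set_option linter.style.haveILetI false

namespace Cfsg.Agent.ClassicalMax.ExtOrth

open Module QuadraticMap Cfsg.Agent.Classical Cfsg.Agent.Classical.Quad

variable {F K V : Type*} [Field F] [Field K] [Algebra F K] [AddCommGroup V] [Module F V] [Module K V]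
  [IsScalarTower F K V] [Finite K] [FiniteDimensional F V] {Q : QuadraticForm F V} {QK : QuadraticForm K V}
  {l : K →ₗ[F] F} {H : Subgroup (oG Q)}

/-- a non-semilinear element gives a triple -/
theorem exists_tr (hS : Setting Q QK l) (hle : Le hS H) {g : oG Q} (hg : g ∈ H) {x : V} (hx0 : x ≠ 0) (hx : QK x = 0)
    (hnl : ∃ c : K, g.1 (c • x) ∉ K ∙ g.1 x) : ∃ g x v, Tr QK H g x v := by
  classical
  haveI := hS.finV
  haveI := hS.fin
  by_contra hno
  push Not at hno
  have hline : ∀ g ∈ H, ∀ x : V, x ≠ 0 → QK x = 0 → ∀ w ∈ img K g x, w ≠ 0 → QK w = 0 →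
      img K g x = line (K := K) F w := fun g hg x hx0 hx w hw hw0 hwc =>
    by_contra fun hne => hno g x w ⟨hg, hx0, hx, hw0, hwc, hw, hne⟩
  set C := img K g x with hC
  set a := g.1 x with had
  have haC : a ∈ C := by simpa [had] using apply_mem_img (K := K) g x 1
  have ha0 : a ≠ 0 := fun e => hx0 (g.1.injective (by rw [← had, e, map_zero]))
  have hcone : ∀ w ∈ C, QK w = 0 → w = 0 := fun w hw hwc => by
    by_contra hw0
    have he := hline g hg x hx0 hx w hw hw0 hwc
    obtain ⟨c, hc⟩ := hnl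
    have h1 := he ▸ apply_mem_img (K := K) g x c
    have h2 : a ∈ line (K := K) F w := he ▸ haC
    obtain ⟨s, hs⟩ := mem_one (K := K) h2
    obtain ⟨s', hs'⟩ := mem_one (K := K) h1
    refine hc (Submodule.mem_span_singleton.2 ⟨s' * s⁻¹, ?_⟩)
    rw [hs', hs, smul_smul, inv_mul_cancel_right₀]
    exact fun e => ha0 (by rw [hs, e, zero_smul])
  have hqa : QK a ≠ 0 := fun e => ha0 (hcone a haC e)
  obtain ⟨v, hv0, hv, hva⟩ : ∃ v, v ≠ 0 ∧ QK v = 0 ∧ polar QK a v = 0 := by
    set X := LinearMap.ker ((LinearMap.lcomp K K (K ∙ a).subtype).comp (polarBilin QK))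
    have h1 : finrank K V ≤ finrank K X + finrank K ↥(K ∙ a) := RootPlanes.finrank_perp_ge (K ∙ a)
    have h4 := finrank_span_le_card (R := K) ({a} : Set V)
    rw [Set.toFinset_singleton, Finset.card_singleton] at h4
    have := hS.four
    obtain ⟨z, hz0, hz⟩ := exists_singular (QK.comp X.subtype) (by omega)
    refine ⟨z, fun e => hz0 (Subtype.ext e), hz, ?_⟩
    rw [polar_comm]
    exact LinearMap.congr_fun (LinearMap.mem_ker.1 z.2) ⟨a, Submodule.mem_span_singleton_self a⟩
  have hva' : polar QK v a = 0 := by rw [polar_comm, hva]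
  have hstab : ∀ z, ∀ hz : polar QK v z = 0, polar QK a z = 0 → ∀ w ∈ C, (tK hS hv hz).1 w ∈ C := by
    intro z hz haz w hw
    set T := tK hS hv hz with hTd
    have hTa : T.1 a = a := by rw [hTd, tK_apply, haz, hva]; simp
    set g' := g⁻¹ * T * g with hg'd
    have hg' : g' ∈ H := mul_mem (mul_mem (inv_mem hg) (hS.tK_mem hle hv hz)) hg
    have hx' : g'.1 x = x := by rw [hg'd, oG_mul_apply, oG_mul_apply, ← had, hTa, had, oG_inv_apply]
    have he := hline g' hg' x hx0 hx x (by simpa [hx'] using apply_mem_img (K := K) g' x 1) hx0 hx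
    obtain ⟨c, rfl⟩ := mem_img.1 hw
    obtain ⟨s, hs⟩ := mem_one (K := K) (he ▸ apply_mem_img (K := K) g' x c : g'.1 (c • x) ∈ line (K := K) F x)
    refine mem_img.2 ⟨s, ?_⟩
    rw [← hs, hg'd, oG_mul_apply, oG_mul_apply, oG_apply_inv]
  obtain ⟨z₀, hz₁, hz₂, hz₃⟩ := hS.exists_aniso₂ hv hqa hva'
  have hb : ∀ w ∈ C, polar QK w v = 0 := fun w hw => by
    have h1 := C.sub_mem (hstab z₀ hz₁ hz₂ w hw) hw
    have h2 := C.sub_mem (hstab (-z₀) (polar_perp_neg hz₁) (polar_perp_neg hz₂) w hw) hw
    have h3 := C.add_mem h1 h2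
    rw [tK_apply, tK_apply, polar_neg_right, QuadraticMap.map_neg] at h3
    have h4 : (-(2 * (QK z₀ * polar QK w v))) • v ∈ C := by
      convert h3 using 1
      module
    have h5 := (smul_eq_zero.1 (hcone _ h4 (by rw [map_smul', hv, mul_zero]))).resolve_right hv0
    exact (mul_eq_zero.1 ((mul_eq_zero.1 (neg_eq_zero.1 h5)).resolve_left hS.twoK)).resolve_left hz₃
  have hspan : ∀ w ∈ C, w ∈ Submodule.span K ({v, a} : Set V) := fun w hw => hS.dperp fun z hz => by
    have hz1 := hz v (Submodule.subset_span (Or.inl rfl))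
    have hz2 := hz a (Submodule.subset_span (Or.inr rfl))
    have h1 := C.sub_mem (hstab z hz1 hz2 w hw) hw
    rw [tK_apply, hb w hw] at h1
    have h4 : polar QK w z • v ∈ C := by
      convert h1 using 1
      module
    exact (smul_eq_zero.1 (hcone _ h4 (by rw [map_smul', hv, mul_zero]))).resolve_right hv0
  let τ : C →ₗ[F] K := ((polarBilin QK a).restrictScalars F).comp C.subtype
  have hτ : ∀ w : C, τ w = polar QK a w := fun w => rfl
  have hinj : Function.Injective τ := by
    rw [← LinearMap.ker_eq_bot, LinearMap.ker_eq_bot']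
    intro w hw
    obtain ⟨s, t, hst⟩ := mem_pair (hspan w w.2)
    rw [hτ, hst, polar_add_right, polar_smul_right, polar_smul_right, hva, polar_self', smul_zero, zero_add,
      smul_eq_mul, mul_eq_zero, mul_eq_zero] at hw
    have ht : t = 0 := hw.resolve_right (by rintro (h | h); exacts [hS.twoK h, hqa h])
    refine Subtype.ext (hcone _ w.2 ?_)
    rw [hst, ht, zero_smul, add_zero, map_smul', hv, mul_zero]
  have hsur : Function.Surjective τ :=
    (LinearMap.injective_iff_surjective_of_finrank_eq_finrank (hS.finrank_img g hx0)).1 hinj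
  refine hqa (hS.sep fun c => ?_)
  rw [mul_zero, map_zero]
  have hsq : ∀ t : K, l (t * t * QK a) = 0 := fun t => by
    obtain ⟨w, hw⟩ := hsur (t * (2 * QK a))
    obtain ⟨s, t', hst⟩ := mem_pair (hspan w w.2)
    rw [hτ, hst, polar_add_right, polar_smul_right, polar_smul_right, hva, polar_self', smul_zero, zero_add,
      smul_eq_mul] at hw
    have ht : t' = t := mul_right_cancel₀ (mul_ne_zero hS.twoK hqa) hw
    have h1 := hS.img_sing hx w.2
    rw [hS.eq, hst, ht, map_add', map_smul', map_smul', hv, polar_smul_left, polar_smul_right, hva',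
      smul_zero, smul_zero, mul_zero, zero_add, add_zero] at h1
    exact h1
  obtain ⟨s, t, rfl⟩ := two_squares hS.twoK c
  rw [add_mul, map_add, hsq, hsq, add_zero]

/-- a triple of largest dimension -/
theorem exists_max {g : oG Q} {x v : V} (h : Tr QK H g x v) :
    ∃ g x v, Tr QK H g x v ∧ ∀ g' x' v', Tr QK H g' x' v' → dimI K g' x' v' ≤ dimI K g x v := by
  classical
  have hP : ∃ d, ∃ g x v, Tr QK H g x v ∧ dimI K g x v + d = finrank F V :=
    ⟨finrank F V - dimI K g x v, g, x, v, h, by have : dimI K g x v ≤ finrank F V := Submodule.finrank_le _; omega⟩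
  obtain ⟨g₁, x₁, v₁, h₁, e₁⟩ := Nat.find_spec hP
  refine ⟨g₁, x₁, v₁, h₁, fun g' x' v' h' => ?_⟩
  have hle : dimI K g' x' v' ≤ finrank F V := Submodule.finrank_le _
  have := Nat.find_min' hP (m := finrank F V - dimI K g' x' v') ⟨g', x', v', h', by omega⟩
  omega

theorem Tr.exists_y (hS : Setting Q QK l) {g : oG Q} {x v : V} (h : Tr QK H g x v) :
    ∃ y ∈ img K g x, y ∉ line (K := K) F v := by
  haveI := hS.fin
  by_contra hc
  push Not at hc
  exact h.nl (Submodule.eq_of_le_of_finrank_eq hc (by rw [hS.finrank_img g h.x0, hS.finrank_line h.v0]))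

/-- the case of a vector of the image orthogonal to `v` outside its line -/
theorem Tr.caseO (hS : Setting Q QK l) (hle : Le hS H) {g : oG Q} {x v : V} (h : Tr QK H g x v)
    (hmax : ∀ g' x' v', Tr QK H g' x' v' → dimI K g' x' v' ≤ dimI K g x v) {a : V} (haC : a ∈ img K g x)
    (hal : a ∉ line (K := K) F v) (hva : polar QK v a = 0) :
    ∀ w ∈ img K g x, ∃ t : F, w - t • a ∈ line (K := K) F v := by
  classical
  haveI := hS.finV
  haveI := hS.fin
  set C := img K g x with hC
  have hv := h.vc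
  have hav : polar QK a v = 0 := by rw [polar_comm, hva]
  have hal' : a ∉ K ∙ v := hal
  have hnU : ∃ c : K, c • v ∉ C := by
    by_contra hc
    push Not at hc
    refine h.nl (Submodule.eq_of_le_of_finrank_eq (fun w hw => ?_) ?_).symm
    · obtain ⟨c, rfl⟩ := mem_one (K := K) hw
      exact hc c
    · rw [hS.finrank_img g h.x0, hS.finrank_line h.v0]
  have hfix : ∀ z, ∀ hz : polar QK v z = 0, (tK hS hv hz).1 a ∈ C → ∀ w ∈ C, (tK hS hv hz).1 w ∈ C :=
    fun z hz haz => h.dich hS hmax (hS.tK_mem hle hv hz) (fun c _ => tK_fix hS hv hz c) haC hal haz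
  have hTa : ∀ z, ∀ hz : polar QK v z = 0, (tK hS hv hz).1 a = a + polar QK a z • v := fun z hz => by
    rw [tK_apply, hav]
    simp
  have hstab : ∀ z, ∀ hz : polar QK v z = 0, polar QK a z = 0 → ∀ w ∈ C,
      (tK hS hv hz).1 w - w ∈ C := fun z hz haz w hw =>
    C.sub_mem (hfix z hz (by rw [hTa, haz, zero_smul, add_zero]; exact haC) w hw) hw
  have hb : ∀ w ∈ C, polar QK w v = 0 := fun w hw => by
    by_contra hb
    by_cases hqa : QK a = 0
    · let d : K →ₗ[F] V := ((LinearMap.toSpanSingleton K V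
        (polar QK w a • v + (-polar QK w v) • a)).restrictScalars F)
      have hd : ∀ c : K, d c = c • (polar QK w a • v + (-polar QK w v) • a) := fun c => rfl
      have hdC : ∀ c : K, d c ∈ C := fun c => by
        have h1 := hstab (c • a) (polar_perp_smul hva c) (by rw [polar_smul_right, polar_self', hqa]; simp) w hw
        rw [tK_apply, map_smul', hqa, polar_smul_right] at h1
        rw [hd]
        convert h1 using 1
        simp only [smul_eq_mul]
        module
      have hdi : Function.Injective d := by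
        rw [← LinearMap.ker_eq_bot, LinearMap.ker_eq_bot']
        intro c hc
        rw [hd, smul_add, smul_smul, smul_smul] at hc
        by_contra hc0
        refine hal' (Submodule.mem_span_singleton.2 ⟨(c * polar QK w v)⁻¹ * (c * polar QK w a), ?_⟩)
        rw [mul_smul, show (c * polar QK w a) • v = (c * polar QK w v) • a by linear_combination (norm := module) hc,
          inv_smul_smul₀ (mul_ne_zero hc0 hb)]
      have heq : LinearMap.range d = C := Submodule.eq_of_le_of_finrank_eq
        (by rintro _ ⟨c, rfl⟩; exact hdC c) (by rw [LinearMap.finrank_range_of_inj hdi, hS.finrank_img g h.x0])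
      obtain ⟨c, hc⟩ := (heq.symm ▸ h.vm : v ∈ LinearMap.range d)
      rw [hd, smul_add, smul_smul, smul_smul] at hc
      rcases eq_or_ne c 0 with rfl | hc0
      · exact h.v0 (by simpa using hc.symm)
      refine hal' (Submodule.mem_span_singleton.2 ⟨(c * polar QK w v)⁻¹ * (c * polar QK w a - 1), ?_⟩)
      rw [mul_smul, show (c * polar QK w a - 1) • v = (c * polar QK w v) • a by linear_combination (norm := module) hc,
        inv_smul_smul₀ (mul_ne_zero hc0 hb)]
    · obtain ⟨z, hz1, hz2, hz3⟩ := hS.exists_aniso₂ hv hqa hva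
      have key : ∀ s : K, (s * s * (QK z * polar QK w v)) • v ∈ C := fun s => by
        have h3 := C.add_mem (hstab (s • z) (polar_perp_smul hz1 s) (polar_perp_smul hz2 s) w hw)
          (hstab (-(s • z)) (polar_perp_neg (polar_perp_smul hz1 s)) (polar_perp_neg (polar_perp_smul hz2 s)) w hw)
        rw [tK_apply, tK_apply, polar_neg_right, QuadraticMap.map_neg, map_smul'] at h3
        have h4 : ((-2 : F) • ((s * s * (QK z * polar QK w v)) • v)) ∈ C := by
          convert h3 using 1
          rw [← algebraMap_smul K (-2 : F), map_neg, map_ofNat]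
          module
        exact (C.smul_mem_iff (neg_ne_zero.2 hS.two)).1 h4
      obtain ⟨c, hc⟩ := hnU
      obtain ⟨s, t, hst⟩ := two_squares hS.twoK (c / (QK z * polar QK w v))
      refine hc ?_
      have h5 := C.add_mem (key s) (key t)
      rwa [← add_smul, ← add_mul, hst, div_mul_cancel₀ _ (mul_ne_zero hz3 hb)] at h5
  have hspan : ∀ w ∈ C, w ∈ Submodule.span K ({v, a} : Set V) := fun w hw => hS.dperp fun z hz => by
    by_contra hwz
    obtain ⟨c, hc⟩ := hnU
    have hz1 := polar_perp_smul (hz v (Submodule.subset_span (Or.inl rfl))) (c / polar QK w z)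
    have hz2 := polar_perp_smul (hz a (Submodule.subset_span (Or.inr rfl))) (c / polar QK w z)
    have h1 := hstab _ hz1 hz2 w hw
    rw [tK_apply, hb w hw, polar_smul_right, smul_eq_mul, div_mul_cancel₀ _ hwz] at h1
    exact hc (by convert h1 using 1; module)
  let S : Subalgebra F K :=
    { carrier := {τ | ∀ u : K, u • v ∈ C → (τ * u) • v ∈ C}
      mul_mem' := fun {a b} ha hb u hu => by rw [mul_assoc]; exact ha _ (hb u hu)
      add_mem' := fun {a b} ha hb u hu => by rw [add_mul, add_smul]; exact C.add_mem (ha u hu) (hb u hu)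
      algebraMap_mem' := fun t u hu => by rw [mul_smul, algebraMap_smul]; exact C.smul_mem t hu }
  haveI := Subalgebra.isSimpleOrder_of_finrank_prime F K hS.prime
  intro w hw
  obtain ⟨α, τ, hwe⟩ := mem_pair (hspan w hw)
  have hτS : τ ∈ S := fun u hu => by
    obtain ⟨z, hz1, hz2⟩ := hS.val₂ hal' u
    have h1 := C.sub_mem (hfix z hz1 (by rw [hTa, hz2]; exact C.add_mem haC hu) w hw) hw
    rw [tK_apply, hb w hw, hwe, polar_add_left, polar_smul_left, polar_smul_left, hz1, hz2, smul_zero, zero_add,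
      smul_eq_mul] at h1
    convert h1 using 1
    module
  rcases eq_bot_or_eq_top S with hS' | hS'
  · obtain ⟨t, rfl⟩ := Algebra.mem_bot.1 (hS' ▸ hτS)
    refine ⟨t, ?_⟩
    rw [hwe, algebraMap_smul, add_sub_cancel_right]
    exact smul_mem_line v α
  · obtain ⟨c, hc⟩ := hnU
    have h2 := (hS'.symm ▸ Algebra.mem_top : c ∈ S) 1 (by rw [one_smul]; exact h.vm)
    rw [mul_one] at h2
    exact absurd h2 hc

/-- every triple of largest dimension gives one with a vector of the image orthogonal to the cone point -/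
theorem Tr.toO (hS : Setting Q QK l) (hle : Le hS H) {g : oG Q} {x v : V} (h : Tr QK H g x v)
    (hmax : ∀ g' x' v', Tr QK H g' x' v' → dimI K g' x' v' ≤ dimI K g x v) :
    ∃ g x v a, Tr QK H g x v ∧ (∀ g' x' v', Tr QK H g' x' v' → dimI K g' x' v' ≤ dimI K g x v) ∧
      a ∈ img K g x ∧ a ∉ line (K := K) F v ∧ polar QK v a = 0 := by
  classical
  haveI := hS.finV
  haveI := hS.fin
  by_cases hO : ∃ a ∈ img K g x, a ∉ line (K := K) F v ∧ polar QK v a = 0
  · obtain ⟨a, ha⟩ := hO
    exact ⟨g, x, v, a, h, hmax, ha⟩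
  push Not at hO
  set C := img K g x with hC
  have hv := h.vc
  obtain ⟨y₀, hy₀C, hy₀l⟩ := h.exists_y hS
  set b₀ := polar QK v y₀ with hb₀
  have hb0 : b₀ ≠ 0 := hO y₀ hy₀C hy₀l
  set y := b₀⁻¹ • y₀ + (-(b₀⁻¹ * b₀⁻¹ * QK y₀)) • v with hyd
  have hy : QK y = 0 := by
    rw [hyd, map_add_smul, map_smul', polar_smul_left, polar_comm QK y₀ v, ← hb₀, hv, smul_eq_mul]
    field_simp
    ring
  have hvy : polar QK v y = 1 := by
    rw [hyd, polar_add_right, polar_smul_right, polar_smul_right, ← hb₀, polar_self', hv]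
    simp [hb0]
  have hy₀ : y₀ = b₀ • y + (b₀⁻¹ * QK y₀) • v := by
    rw [hyd]
    match_scalars <;> field_simp <;> ring
  have hcomp : ∀ w ∈ C, w = polar QK y w • v + polar QK v w • y := fun w hw => by
    set d := w - (polar QK y w • v + polar QK v w • y) with hd
    have hdW : d ∈ perpPair QK v y := mem_perpPair.2
      ⟨by rw [hd, polar_sub_right, polar_add_right, polar_smul_right, polar_smul_right, polar_self', hv, hvy]; simp,
       by rw [hd, polar_sub_right, polar_add_right, polar_smul_right, polar_smul_right, polar_self', hy,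
            polar_comm QK y v, hvy]; simp⟩
    by_contra hne
    obtain ⟨k, hk, hkv, hky, hkd⟩ := hS.exists_move hv hy hvy hdW (sub_ne_zero.2 hne)
    have hy₀' : (res hS k).1 y₀ = y₀ := by rw [res_apply, hy₀, map_add, map_smul, map_smul, hkv, hky]
    have hst := h.dich hS hmax (hle k hk) (fun c _ => by rw [res_apply, map_smul, hkv]) hy₀C hy₀l
      (by rw [hy₀']; exact hy₀C)
    have h1 : (res hS k).1 w - w = k.1 d - d := by
      rw [res_apply, hd, map_sub, map_add, map_smul, map_smul, hkv, hky]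
      abel
    have h2 : k.1 d - d ∈ C := h1 ▸ C.sub_mem (hst w hw) hw
    have hvd : polar QK v (k.1 d - d) = 0 := by
      nth_rw 1 [polar_sub_right, ← hkv]
      rw [polar_oG, (mem_perpPair.1 hdW).1, sub_zero]
    have hyd' : polar QK y (k.1 d - d) = 0 := by
      nth_rw 1 [polar_sub_right, ← hky]
      rw [polar_oG, (mem_perpPair.1 hdW).2, sub_zero]
    have h3 : k.1 d - d ∈ line (K := K) F v := by
      by_contra hne'
      exact hO _ h2 hne' hvd
    obtain ⟨s, hs⟩ := mem_one (K := K) h3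
    rw [hs, polar_smul_right, polar_comm QK y v, hvy, smul_eq_mul, mul_one] at hyd'
    exact hkd (sub_eq_zero.1 (by rw [hs, hyd', zero_smul]))
  obtain ⟨z, hvz, hyz, hqz⟩ := hS.value hv hy hvy (inv_ne_zero hb0)
  set T := tK hS hv hvz with hTd
  have hTy : T.1 y₀ = y₀ + (-b₀) • z + (-1 : K) • v := by
    rw [hTd, tK_apply, hqz, polar_comm QK y₀ v, ← hb₀, inv_mul_cancel₀ hb0,
      hy₀, polar_add_left, polar_smul_left, polar_smul_left, hyz, hvz, smul_zero, smul_zero, add_zero, zero_smul,
      add_zero]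
  have hnC : T.1 y₀ ∉ C := fun hm => by
    have h1 := C.sub_mem hm hy₀C
    rw [hTy] at h1
    have h2 : (-b₀) • z + (-1 : K) • v ∈ C := by
      convert h1 using 1
      abel
    have h3 : (-b₀) • z + (-1 : K) • v ∈ line (K := K) F v := by
      by_contra hne
      exact hO _ h2 hne (polar_perp_add (polar_perp_smul hvz _) (by
        rw [polar_smul_right, polar_self', hv]; simp))
    obtain ⟨s, hs⟩ := mem_one (K := K) h3
    have h4 := congrArg (polar QK y) hs
    rw [polar_add_right, polar_smul_right, polar_smul_right, polar_smul_right, hyz, polar_comm QK y v, hvy] at h4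
    simp only [smul_eq_mul, mul_zero, zero_add, mul_one] at h4
    have h5 : (-b₀) • z = 0 := by rw [← h4] at hs; exact add_eq_right.1 hs
    have hz0 : z = 0 := (smul_eq_zero.1 h5).resolve_left (neg_ne_zero.2 hb0)
    rw [hz0, map_zero] at hqz
    exact inv_ne_zero hb0 hqz.symm
  have hTv : T.1 v = v := by
    have := tK_fix hS hv hvz 1
    rwa [one_smul] at this
  have hnl : img K (g⁻¹ * T * g) x ≠ line (K := K) F ((g⁻¹).1 v) := fun e =>
    hnC ((h.stab hS hTv e).le ⟨y₀, hy₀C, rfl⟩)
  have h' := h.move (hS.tK_mem hle hv hvz) hTv hnl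
  have hsub : (img K g x ⊓ line (K := K) F v : Submodule F V) ≤ (img K g x).map (T.1 : V →ₗ[F] V) ⊓ img K g x :=
    fun w hw => by
      obtain ⟨c, rfl⟩ := mem_one (K := K) hw.2
      exact ⟨⟨_, hw.1, tK_fix hS hv hvz c⟩, hw.1⟩
  refine ⟨g⁻¹ * T * g, x, (g⁻¹).1 v, (g⁻¹).1 (T.1 y₀), h',
    fun g' x' v' hh => (hmax g' x' v' hh).trans ?_, ?_, ?_, ?_⟩
  · rw [h.inf_le]
    exact Submodule.finrank_mono hsub
  · rw [img_conj]
    exact ⟨_, ⟨y₀, hy₀C, rfl⟩, rfl⟩
  · intro hm
    obtain ⟨c, hc⟩ := mem_img.1 h.vm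
    obtain ⟨s, hs⟩ := mem_one (K := K) hm
    rw [← hc, oG_inv_apply, smul_smul] at hs
    refine hnC (mem_img.2 ⟨s * c, ?_⟩)
    rw [← hs, oG_apply_inv]
  · refine hS.sep fun c => ?_
    rw [mul_zero, map_zero, ← smul_eq_mul, ← polar_smul_left, ← hS.polar_eq, ← polar_oG g, oG_apply_inv]
    obtain ⟨c', hc'⟩ := mem_img.1 h.vm
    have hwC : g.1 (c • (g⁻¹).1 v) ∈ C := by
      rw [← hc', oG_inv_apply, smul_smul]
      exact apply_mem_img g x _
    set w := g.1 (c • (g⁻¹).1 v) with hwd
    have hwz : polar QK w z = 0 := by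
      rw [hcomp w hwC, polar_add_left, polar_smul_left, polar_smul_left, hvz, hyz, smul_zero, smul_zero, add_zero]
    have h6 := hS.img_polar h.xc hwC hy₀C
    have h7 := hS.img_polar h.xc hwC h.vm
    rw [hS.polar_eq, hTy, polar_add_right, polar_add_right, polar_smul_right, hwz, smul_zero, add_zero,
      neg_one_smul, polar_neg_right, map_add, map_neg, h6, h7, neg_zero, add_zero]

/-- the normal form -/
structure Std (QK : QuadraticForm K V) (H : Subgroup (oG Q)) (g : oG Q) (v a : V) : Prop where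
  gH : g ∈ H
  v0 : v ≠ 0
  vc : QK v = 0
  perp : polar QK v a = 0
  nin : a ∉ K ∙ v
  vm : v ∈ img K g v
  am : a ∈ img K g v
  dec : ∀ w ∈ img K g v, ∃ t : F, w - t • a ∈ line (K := K) F v
  hyp : ∃ c₀ : K, c₀ • v ∉ img K g v ∧ ∀ c : K, ∃ s : F, c • v - s • (c₀ • v) ∈ img K g v

theorem exists_std (hS : Setting Q QK l) (hle : Le hS H) {g : oG Q} (hg : g ∈ H)
    (hnl : ∃ (k : K) (x : V), g.1 (k • x) ∉ K ∙ g.1 x) : ∃ g v a, Std QK H g v a := by
  classical
  haveI := hS.fin
  obtain ⟨x, hx, c, hc⟩ : ∃ x, QK x = 0 ∧ ∃ c : K, g.1 (c • x) ∉ K ∙ g.1 x := by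
    by_contra hcon
    push Not at hcon
    obtain ⟨k, x, hk⟩ := hnl
    exact hk (hS.semilinear g.1 hcon x k)
  have hx0 : x ≠ 0 := fun e => hc (by rw [e, smul_zero, map_zero]; exact Submodule.zero_mem _)
  obtain ⟨g₀, x₀, v₀, h₀⟩ := exists_tr hS hle hg hx0 hx ⟨c, hc⟩
  obtain ⟨g₁, x₁, v₁, h₁, hmax⟩ := exists_max h₀
  obtain ⟨g, x, v, a, h, hmax, haC, hal, hva⟩ := h₁.toO hS hle hmax
  have hdec := h.caseO hS hle hmax haC hal hva
  obtain ⟨k, hk, t, ht, hkv⟩ := hS.trans h.v0 h.vc h.x0 h.xc
  set g' := g * res hS k with hg'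
  have himg : img K g' v = img K g x := by
    refine Submodule.eq_of_le_of_finrank_eq (fun w hw => ?_) (by rw [hS.finrank_img g' h.v0, hS.finrank_img g h.x0])
    obtain ⟨c, rfl⟩ := mem_img.1 hw
    rw [hg', oG_mul_apply, res_apply, map_smul, hkv, smul_smul]
    exact apply_mem_img g x _
  set I : Submodule F V := img K g x ⊓ line (K := K) F v with hI
  have hdI : finrank F K ≤ finrank F I + 1 := by
    have hsub : img K g x ≤ I ⊔ (F ∙ a) := fun w hw => by
      obtain ⟨t, ht⟩ := hdec w hw
      exact Submodule.mem_sup.2 ⟨_, ⟨Submodule.sub_mem _ hw (Submodule.smul_mem _ t haC), ht⟩, t • a,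
        Submodule.smul_mem _ t (Submodule.mem_span_singleton_self a), sub_add_cancel w _⟩
    have h1 := Submodule.finrank_mono hsub
    have h2 := Submodule.finrank_add_le_finrank_add_finrank I (F ∙ a)
    have h3 := finrank_span_le_card (R := F) ({a} : Set V)
    rw [Set.toFinset_singleton, Finset.card_singleton] at h3
    rw [hS.finrank_img g h.x0] at h1
    omega
  obtain ⟨c₀, hc₀⟩ : ∃ c : K, c • v ∉ img K g x := by
    by_contra hcon
    push Not at hcon
    refine h.nl (Submodule.eq_of_le_of_finrank_eq (fun w hw => ?_) ?_).symm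
    · obtain ⟨c, rfl⟩ := mem_one (K := K) hw
      exact hcon c
    · rw [hS.finrank_img g h.x0, hS.finrank_line h.v0]
  have hsup : I ⊔ (F ∙ (c₀ • v)) = line (K := K) F v := by
    refine Submodule.eq_of_le_of_finrank_le (sup_le inf_le_right
      ((Submodule.span_singleton_le_iff_mem _ _).2 (smul_mem_line v c₀))) ?_
    have hlt : I < I ⊔ (F ∙ (c₀ • v)) := lt_of_le_of_ne le_sup_left fun e => hc₀
      ((e.symm ▸ Submodule.mem_sup_right (Submodule.mem_span_singleton_self _) : c₀ • v ∈ I).1)
    have := Submodule.finrank_lt_finrank_of_lt hlt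
    rw [hS.finrank_line h.v0]
    omega
  refine ⟨g', v, a, mul_mem h.gH (hle k hk), h.v0, h.vc, hva, hal, himg ▸ h.vm, himg ▸ haC, himg ▸ hdec, c₀,
    himg ▸ hc₀, fun c => ?_⟩
  obtain ⟨i, hi, j, hj, hij⟩ := Submodule.mem_sup.1 (hsup.symm ▸ smul_mem_line v c : c • v ∈ I ⊔ (F ∙ (c₀ • v)))
  obtain ⟨s, rfl⟩ := Submodule.mem_span_singleton.1 hj
  exact ⟨s, by rw [himg, ← hij, add_sub_cancel_right]; exact hi.1⟩

end Cfsg.Agent.ClassicalMax.ExtOrth
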