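import Cfsg.Agent.ClassicalMax.ExtOrth.Normal

/-!
A non-trivial element of the overgroup fixing the orthogonal of a cone line over the extension field pointwise.
-/

set_option autoImplicit false
set_option linter.unusedSectionVars false
set_option linter.style.haveILetI false

namespace Cfsg.Agent.ClassicalMax.ExtOrth

open Module QuadraticMap Cfsg.Agent.Classical Cfsg.Agent.Classical.Quad

variable {F K V : Type*} [Field F] [Field K] [Algebra F K] [AddCommGroup V] [Module F V] [Module K V]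
  [IsScalarTower F K V] [Finite K] [FiniteDimensional F V] {Q : QuadraticForm F V} {QK : QuadraticForm K V}
  {l : K →ₗ[F] F} {H : Subgroup (oG Q)}

/-- the element lies in `H` and fixes the orthogonal of the line of `w` pointwise -/
structure Root (QK : QuadraticForm K V) (H : Subgroup (oG Q)) (w : V) (o : oG Q) : Prop where
  mem : o ∈ H
  fix : ∀ x, polar QK w x = 0 → o.1 x = x

/-- an element fixing a cone line pointwise preserves its orthogonal -/
theorem Setting.perp_of_fix (hS : Setting Q QK l) {o : oG Q} {v x : V} (ho : ∀ c : K, o.1 (c • v) = c • v)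
    (hx : polar QK v x = 0) : polar QK v (o.1 x) = 0 := hS.sep fun c => by
  rw [mul_zero, map_zero, ← smul_eq_mul, ← polar_smul_left, ← hS.polar_eq, ← ho c, polar_oG, hS.polar_eq,
    polar_smul_left, hx, smul_zero, map_zero]

/-- an element fixing a cone line pointwise moves vectors by the orthogonal -/
theorem Setting.sub_of_fix (hS : Setting Q QK l) {o : oG Q} {v : V} (ho : ∀ c : K, o.1 (c • v) = c • v) (x : V) :
    polar QK v (o.1 x - x) = 0 := hS.sep fun c => by
  rw [mul_zero, map_zero, ← smul_eq_mul, ← polar_smul_left, ← hS.polar_eq, polar_sub_right, sub_eq_zero]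
  nth_rw 1 [← ho c]
  rw [polar_oG]

namespace Root

theorem im (hS : Setting Q QK l) {w : V} {o : oG Q} (h : Root QK H w o) (x : V) : o.1 x - x ∈ K ∙ w := by
  refine hS.dperp fun z hz => hS.sep fun c => ?_
  have hwz := hz w (Submodule.mem_span_singleton_self w)
  rw [mul_zero, map_zero, ← smul_eq_mul, ← polar_smul_right, ← hS.polar_eq, polar_sub_left, sub_eq_zero]
  nth_rw 1 [← h.fix (c • z) (polar_perp_smul hwz c)]
  rw [polar_oG]

theorem eq_of (hS : Setting Q QK l) {w : V} {o : oG Q} (h : Root QK H w o) {x x' : V}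
    (e : polar QK w x = polar QK w x') : o.1 x - x = o.1 x' - x' := by
  have h1 := h.fix (x - x') (by rw [polar_sub_right, e, sub_self])
  rw [map_sub] at h1
  linear_combination (norm := abel) h1

theorem conj (hS : Setting Q QK l) (hle : Le hS H) {w : V} {o : oG Q} (h : Root QK H w o) {k : oG QK}
    (hk : k ∈ commutator (oG QK)) : Root QK H (k.1 w) (res hS k * o * (res hS k)⁻¹) where
  mem := mul_mem (mul_mem (hle k hk) h.mem) (inv_mem (hle k hk))
  fix x hx := by
    have e : ((res hS k)⁻¹).1 x = (k⁻¹).1 x := by rw [← map_inv]; rfl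
    rw [oG_mul_apply, oG_mul_apply, e, h.fix _ (by rw [← polar_oG k, oG_apply_inv]; exact hx), res_apply, oG_apply_inv]

theorem smul {w : V} {o : oG Q} {t : K} (ht : t ≠ 0) (h : Root QK H (t • w) o) : Root QK H w o where
  mem := h.mem
  fix x hx := h.fix x (by rw [polar_smul_left, hx, smul_zero])

/-- on every cone line some such element moves a given vector not orthogonal to it -/
theorem exists_moving (hS : Setting Q QK l) (hle : Le hS H) {v : V} (hv0 : v ≠ 0) (hv : QK v = 0) {o : oG Q}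
    (h : Root QK H v o) (ho : o ≠ 1) {w x : V} (hw : QK w = 0) (hwx : polar QK w x ≠ 0) :
    ∃ o, Root QK H w o ∧ o.1 x ≠ x := by
  have hw0 : w ≠ 0 := fun e => hwx (by rw [e]; simp [polar])
  obtain ⟨k, hk, t, ht, hkv⟩ := hS.trans hv0 hv hw0 hw
  have h1 := (hkv ▸ h.conj hS hle hk : Root QK H (t • w) _).smul ht
  set o₁ := res hS k * o * (res hS k)⁻¹
  obtain ⟨x₀, hx₀⟩ : ∃ x₀, o₁.1 x₀ ≠ x₀ := by
    by_contra hc
    push Not at hc
    have : o₁ = 1 := ext_oG fun z => by rw [hc, oG_one_apply]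
    exact ho (by simpa [o₁] using this)
  have hτ : polar QK w x₀ ≠ 0 := fun e => hx₀ (h1.fix x₀ e)
  obtain ⟨y, hy, hwy⟩ := hS.partner hw0 hw
  have hlam : polar QK w x₀ / polar QK w x ≠ 0 := div_ne_zero hτ hwx
  obtain ⟨k', hk', hkw⟩ := hS.torus hw hy hwy hlam
  have h2 := (hkw ▸ h1.conj hS hle hk' : Root QK H (_ • w) _).smul hlam
  refine ⟨_, h2, fun e => hx₀ ?_⟩
  have e' : ((res hS k')⁻¹).1 x = (k'⁻¹).1 x := by rw [← map_inv]; rfl
  rw [oG_mul_apply, oG_mul_apply, e', res_apply] at e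
  have e2 : o₁.1 ((k'⁻¹).1 x) = (k'⁻¹).1 x := by
    have := congrArg (k'⁻¹).1 e
    rwa [oG_inv_apply] at this
  have h3 : polar QK w x₀ = polar QK w ((k'⁻¹).1 x) := by
    rw [← polar_oG k' w ((k'⁻¹).1 x), oG_apply_inv, hkw, polar_smul_left, smul_eq_mul, div_mul_cancel₀ _ hwx]
  have h4 := h1.eq_of hS h3
  rw [e2, sub_self] at h4
  exact sub_eq_zero.1 h4

end Root

theorem finrank_ker_ge {W : Type*} [AddCommGroup W] [Module F W] [FiniteDimensional F W] (L : V →ₗ[F] W)
    (X : Submodule F V) : finrank F X ≤ finrank F (LinearMap.ker L ⊓ X : Submodule F V) + finrank F W := by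
  have h1 := LinearMap.finrank_range_add_finrank_ker (L.comp X.subtype)
  have h2 := Submodule.finrank_le (LinearMap.range (L.comp X.subtype))
  have h3 : finrank F (LinearMap.ker (L.comp X.subtype)) ≤ finrank F (LinearMap.ker L ⊓ X : Submodule F V) := by
    refine le_of_eq_of_le (Submodule.equivMapOfInjective X.subtype X.injective_subtype _).finrank_eq ?_
    exact Submodule.finrank_mono fun w hw => by
      obtain ⟨w, hw, rfl⟩ := hw
      exact ⟨hw, w.2⟩
  omega

theorem Std.exists_root (hS : Setting Q QK l) (hle : Le hS H) {g : oG Q} {v a : V} (h : Std QK H g v a) :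
    ∃ o, Root QK H v o ∧ o ≠ 1 := by
  classical
  haveI := hS.finV
  haveI := hS.fin
  have hv := h.vc
  set C := img K g v with hC
  have hav : polar QK a v = 0 := by rw [polar_comm, h.perp]
  have ha0 : Q a = 0 := hS.img_sing hv h.am
  have hline : ∀ (c : K) (x : V), polar QK v x = 0 → polar Q (c • v) x = 0 := fun c x hx => by
    rw [hS.polar_eq, polar_smul_left, hx, smul_zero, map_zero]
  have hline' : ∀ d ∈ line (K := K) F v, ∀ x : V, polar QK v x = 0 → polar Q d x = 0 := fun d hd x hx => by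
    obtain ⟨c, rfl⟩ := mem_one (K := K) hd
    exact hline c x hx
  -- the coefficient along `a`
  obtain ⟨μ, hμ⟩ : ∃ μ : K, ∀ c : K, g.1 (c • v) - l (c * μ) • a ∈ line (K := K) F v := by
    obtain ⟨φ, hφ1, hφ2⟩ := Submodule.exists_dual_map_eq_bot_of_notMem (p := line (K := K) F v) (x := a) h.nin inferInstance
    obtain ⟨μ, hμ⟩ := hS.rep (((φ a)⁻¹ • φ).comp ((g.1 : V →ₗ[F] V).comp
      ((LinearMap.toSpanSingleton K V v).restrictScalars F)))
    refine ⟨μ, fun c => ?_⟩
    obtain ⟨t, ht⟩ := h.dec _ (apply_mem_img (K := K) g v c)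
    have h0 : φ (g.1 (c • v) - t • a) = 0 :=
      (Submodule.mem_bot F).1 (hφ2 ▸ Submodule.mem_map_of_mem ht)
    rw [map_sub, map_smul φ t, sub_eq_zero, smul_eq_mul] at h0
    have : l (c * μ) = t := by
      rw [hμ]
      show (φ a)⁻¹ * φ (g.1 (c • v)) = t
      rw [h0, mul_comm t, inv_mul_cancel_left₀ hφ1]
    rwa [this]
  have hμ0 : μ ≠ 0 := fun e => by
    obtain ⟨c, hc⟩ := mem_img.1 h.am
    have := hμ c
    rw [hc, e, mul_zero, map_zero, zero_smul, sub_zero] at this
    exact h.nin this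
  have hξ : ∀ x, polar QK v x = 0 → polar QK v ((g⁻¹).1 x) = polar Q a x • μ := fun x hx => hS.sep fun c => by
    rw [← smul_eq_mul, ← polar_smul_left, ← hS.polar_eq, ← polar_oG g, oG_apply_inv]
    have h1 := hline' _ (hμ c) x hx
    rw [polar_sub_left, polar_smul_left, sub_eq_zero] at h1
    rw [h1, mul_smul_comm, map_smul, smul_eq_mul, smul_eq_mul, mul_comm]
  -- hyperplane
  obtain ⟨c₀, hc₀, hsplit⟩ := h.hyp
  let U : Submodule F K := C.comap ((LinearMap.toSpanSingleton K V v).restrictScalars F)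
  have hU : ∀ c : K, c ∈ U ↔ c • v ∈ C := fun c => Iff.rfl
  have hone : (1 : K) ∈ U := by rw [hU, one_smul]; exact h.vm
  have hsplit' : ∀ c : K, ∃ s : F, c - s • c₀ ∈ U := fun c => by
    obtain ⟨s, hs⟩ := hsplit c
    exact ⟨s, by rw [hU, sub_smul, smul_assoc]; exact hs⟩
  have hUdim : finrank F K ≤ finrank F U + 1 := by
    have hle' : (⊤ : Submodule F K) ≤ U ⊔ (F ∙ c₀) := fun c _ => by
      obtain ⟨s, hs⟩ := hsplit' c
      exact Submodule.mem_sup.2 ⟨_, hs, _, Submodule.smul_mem _ s (Submodule.mem_span_singleton_self c₀), sub_add_cancel c _⟩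
    have h1 := Submodule.finrank_mono hle'
    have h2 := Submodule.finrank_add_le_finrank_add_finrank U (F ∙ c₀)
    have h3 := finrank_span_le_card (R := F) ({c₀} : Set K)
    rw [Set.toFinset_singleton, Finset.card_singleton] at h3
    rw [finrank_top] at h1
    omega
  obtain ⟨κ, hκU, hκ0⟩ : ∃ κ : K, (∀ u ∈ U, l (u * κ) = 0) ∧ l (c₀ * κ) = 1 := by
    obtain ⟨φ, hφ1, hφ2⟩ := Submodule.exists_dual_map_eq_bot_of_notMem (p := U) (x := c₀) (fun e => hc₀ ((hU c₀).1 e)) inferInstance
    obtain ⟨κ, hκ⟩ := hS.rep ((φ c₀)⁻¹ • φ)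
    refine ⟨κ, fun u hu => ?_, by rw [hκ]; exact inv_mul_cancel₀ hφ1⟩
    have hz : φ u = 0 := (Submodule.mem_bot F).1 (hφ2 ▸ Submodule.mem_map_of_mem hu)
    rw [hκ, LinearMap.smul_apply, hz, smul_zero]
  -- choice of the centre
  set a₀ := (g⁻¹).1 (c₀ • v) with ha₀
  let L : V →ₗ[F] K := ((polarBilin QK a₀).restrictScalars F).comp
    ((μ⁻¹ • (LinearMap.id : V →ₗ[K] V)).restrictScalars F ∘ₗ ((g⁻¹).1 : V →ₗ[F] V))
  have hL : ∀ x, L x = polar QK a₀ (μ⁻¹ • (g⁻¹).1 x) := fun x => rfl
  let P : V →ₗ[F] K := (polarBilin QK v).restrictScalars F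
  have hP : ∀ x, P x = polar QK v x := fun x => rfl
  set X₀ : Submodule F V := LinearMap.ker (polarBilin Q a) ⊓ LinearMap.ker P with hX₀
  set E : Submodule F V := LinearMap.ker L ⊓ X₀ with hE
  have hE' : ∀ η ∈ E, polar QK v η = 0 ∧ polar Q a η = 0 ∧ polar QK a₀ (μ⁻¹ • (g⁻¹).1 η) = 0 := fun η hη =>
    ⟨hη.2.2, hη.2.1, hη.1⟩
  have hEdim : finrank F V ≤ finrank F E + 2 * finrank F K := by
    have h1 := LinearMap.finrank_range_add_finrank_ker P
    have h2 := Submodule.finrank_le (LinearMap.range P)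
    have h3 := finrank_ker_ge (polarBilin Q a) (LinearMap.ker P)
    rw [finrank_self] at h3
    let M : Submodule F K := LinearMap.ker (l.comp (LinearMap.mulLeft F μ))
    have hM : finrank F M + 1 ≤ finrank F K := by
      refine Submodule.finrank_lt (lt_top_iff_ne_top.1 (lt_top_iff_ne_top.2 fun e => ?_))
      obtain ⟨c, hc⟩ := hS.exists_one hμ0
      have : l (μ * c) = 0 := (e.ge (Submodule.mem_top (x := c)) : c ∈ M)
      rw [mul_comm, hc] at this
      exact one_ne_zero this
    let L' : X₀ →ₗ[F] M := LinearMap.codRestrict M (L.comp X₀.subtype) fun η => by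
      show l (μ * polar QK a₀ (μ⁻¹ • (g⁻¹).1 η)) = 0
      rw [← smul_eq_mul, ← polar_smul_right, smul_inv_smul₀ hμ0, ← hS.polar_eq, polar_oG, hline _ _ η.2.2]
    have h4 := LinearMap.finrank_range_add_finrank_ker L'
    have h5 := Submodule.finrank_le (LinearMap.range L')
    have h6 : finrank F (LinearMap.ker L') ≤ finrank F E := by
      refine le_of_eq_of_le (Submodule.equivMapOfInjective X₀.subtype X₀.injective_subtype _).finrank_eq ?_
      exact Submodule.finrank_mono fun w hw => by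
        obtain ⟨w, hw, rfl⟩ := hw
        exact ⟨congrArg Subtype.val hw, w.2⟩
    rw [← hX₀] at h3
    omega
  have hn := Module.finrank_mul_finrank F K V
  obtain ⟨η, u, e, hηE, hu, he, hue, z₁, hvz₁, haz₁, hηz₁⟩ : ∃ η u e, η ∈ E ∧ u ∈ U ∧ e ∈ U ∧ (∀ s : F, e ≠ s • u) ∧
      ∃ z, polar QK v z = 0 ∧ polar QK a z = u ∧ polar QK η z = e := by
    by_cases hout : ∃ η ∈ E, η ∉ Submodule.span K ({v, a} : Set V)
    · obtain ⟨η, hη, hη'⟩ := hout
      obtain ⟨z, h1, h2, h3⟩ := hS.val₃ hη' 1
      exact ⟨η, 0, 1, hη, U.zero_mem, hone, fun s => by rw [smul_zero]; exact one_ne_zero, z, h1, h2, h3⟩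
    push Not at hout
    set W : Submodule F V := line (K := K) F v ⊔ (F ∙ a) with hW
    have h4 : 3 ≤ finrank F K ∧ finrank F V ≤ 4 * finrank F K := by
      have h1 : finrank F E ≤ finrank F ((Submodule.span K ({v, a} : Set V)).restrictScalars F : Submodule F V) :=
        Submodule.finrank_mono hout
      have h2 : finrank F ((Submodule.span K ({v, a} : Set V)).restrictScalars F : Submodule F V) =
          finrank F K * finrank K (Submodule.span K ({v, a} : Set V)) :=
        ((Module.finrank_mul_finrank F K (Submodule.span K ({v, a} : Set V)))).symm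
      have h3 := finrank_span_le_card (R := K) ({v, a} : Set V)
      rw [Set.toFinset_insert, Set.toFinset_singleton] at h3
      have h3' := Nat.mul_le_mul_left (finrank F K) (h3.trans Finset.card_le_two)
      have h6 : finrank F V ≤ 4 * finrank F K := by omega
      refine ⟨?_, h6⟩
      have h7 : finrank K V ≤ 4 := Nat.le_of_mul_le_mul_left (by rw [hn, mul_comm _ 4]; exact h6) hS.prime.pos
      rcases hS.big (le_antisymm h7 hS.four) with h8 | hell
      · omega
      by_contra h8
      have hqa : QK a ≠ 0 := fun e => h.nin (hell v a h.v0 hv e h.perp)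
      obtain ⟨k, hk⟩ := hS.exists_one (a := polar QK a a) (by rw [polar_self']; exact mul_ne_zero hS.twoK hqa)
      have hlt : E < ((Submodule.span K ({v, a} : Set V)).restrictScalars F : Submodule F V) := by
        refine lt_of_le_of_ne hout fun e => ?_
        have hka : k • a ∈ E := e.symm ▸ Submodule.smul_mem _ k (Submodule.subset_span (Or.inr rfl))
        have h9 := (hE' _ hka).2.1
        rw [hS.polar_eq, polar_smul_right, smul_eq_mul, hk] at h9
        exact one_ne_zero h9
      have h9 := Submodule.finrank_lt_finrank_of_lt hlt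
      have h10 : finrank F K * 4 ≤ finrank F V := by
        rw [← hn]; exact Nat.mul_le_mul_left _ hS.four
      have := hS.prime.two_le
      omega
    obtain ⟨η, hη, hηW⟩ : ∃ η ∈ E, η ∉ W := by
      by_contra hc
      push Not at hc
      have h1 := Submodule.finrank_mono (show E ≤ W from hc)
      have h2 := Submodule.finrank_add_le_finrank_add_finrank (line (K := K) F v) (F ∙ a)
      have h3 := finrank_span_le_card (R := F) ({a} : Set V)
      rw [Set.toFinset_singleton, Finset.card_singleton] at h3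
      rw [hS.finrank_line h.v0, ← hW] at h2
      have h5 : 4 * finrank F K ≤ finrank F V := by
        rw [← hn, mul_comm]
        exact Nat.mul_le_mul_left _ hS.four
      omega
    obtain ⟨α, ρ, hηe⟩ := mem_pair (hout η hη)
    have hρ : ∀ s : F, algebraMap F K s ≠ ρ := fun s hs => hηW (by
      rw [hηe, ← hs, algebraMap_smul]
      exact Submodule.add_mem_sup (smul_mem_line v α) (Submodule.smul_mem _ s (Submodule.mem_span_singleton_self a)))
    obtain ⟨u, hu1, hu0⟩ := Submodule.exists_mem_ne_zero_of_ne_bot (p := U ⊓ U.comap (LinearMap.mulLeft F ρ))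
      (fun hb => by
        have h1 := finrank_ker_ge (V := K) (U.mkQ.comp (LinearMap.mulLeft F ρ)) U
        have h2 := Submodule.finrank_quotient_add_finrank U
        rw [LinearMap.ker_comp, Submodule.ker_mkQ, inf_comm, hb, finrank_bot] at h1
        omega)
    obtain ⟨z, h1, h2⟩ := hS.val₂ (v := v) (a := a) h.nin u
    refine ⟨η, u, ρ * u, hη, hu1.1, hu1.2, fun s hs => ?_, z, h1, h2, ?_⟩
    · rw [Algebra.smul_def] at hs
      exact hρ s (mul_right_cancel₀ hu0 hs).symm
    · rw [hηe, polar_add_left, polar_smul_left, polar_smul_left, h1, h2, smul_zero, zero_add, smul_eq_mul]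
  obtain ⟨hvη, haη, ha₀η⟩ := hE' η hηE
  set ζ := μ⁻¹ • (g⁻¹).1 η with hζd
  have hvζ : polar QK v ζ = 0 := polar_perp_smul (by rw [hξ η hvη, haη, zero_smul]) _
  set T := tK hS hv hvζ with hTd
  set S := g * T * g⁻¹ with hSd
  have hSH : S ∈ H := mul_mem (mul_mem h.gH (hS.tK_mem hle hv hvζ)) (inv_mem h.gH)
  have hSC : ∀ w ∈ C, S.1 w = w := fun w hw => by
    obtain ⟨c, rfl⟩ := mem_img.1 hw
    rw [hSd, oG_mul_apply, oG_mul_apply, oG_inv_apply, tK_fix]
  have hSl : ∀ c : K, S.1 (c • v) = c • v := fun c => by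
    have ha₀v : polar QK v a₀ = 0 := by
      rw [ha₀, hξ _ (by rw [polar_smul_right, polar_self', hv]; simp), polar_comm Q a, hline c₀ a h.perp, zero_smul]
    have h0 : S.1 (c₀ • v) = c₀ • v := by
      rw [hSd, oG_mul_apply, oG_mul_apply, ← ha₀, hTd, tK_apply, ha₀η, polar_comm QK a₀ v, ha₀v]
      simp [ha₀, oG_apply_inv]
    obtain ⟨s, hs⟩ := hsplit c
    have h1 := hSC _ hs
    rw [map_sub, map_smul S.1 s, h0] at h1
    exact sub_left_inj.1 h1
  have hSx : ∀ x, polar QK v x = 0 → ∃ d ∈ line (K := K) F v,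
      S.1 x = x + d + (polar Q x η - polar Q a x * Q η) • a - polar Q a x • η := fun x hx => by
    set t := polar Q a x with ht
    set k := polar QK ((g⁻¹).1 x) ζ - QK ζ * t • μ with hk
    refine ⟨g.1 (k • v) - l (k * μ) • a, hμ k, ?_⟩
    have hlk : l (k * μ) = polar Q x η - t * Q η := by
      have e1 : polar Q x η = l (polar QK ((g⁻¹).1 x) ζ * μ) := by
        rw [← polar_oG g⁻¹, hS.polar_eq, hζd, polar_smul_right, smul_eq_mul, mul_comm μ⁻¹, inv_mul_cancel_right₀ hμ0]
      have e2 : Q η = l (QK ζ * (μ * μ)) := by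
        rw [← (g⁻¹).2 η, hS.eq, hζd, map_smul']
        congr 1
        field_simp
      rw [hk, sub_mul, map_sub, ← e1, mul_smul_comm, smul_mul_assoc, map_smul, smul_eq_mul, mul_assoc, ← e2]
    have e3 : (t • μ) • ζ = t • (g⁻¹).1 η := by
      rw [smul_assoc, hζd, smul_inv_smul₀ hμ0]
    rw [hSd, oG_mul_apply, oG_mul_apply, hTd, tK_apply, polar_comm QK ((g⁻¹).1 x) v, hξ x hx, ← ht, neg_smul, e3]
    rw [show (g⁻¹).1 x + polar QK ((g⁻¹).1 x) ζ • v + -(t • (g⁻¹).1 η) + -(QK ζ * t • μ) • v =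
      (g⁻¹).1 x + k • v + -(t • (g⁻¹).1 η) by rw [hk]; module, map_add, map_add, map_neg, map_smul g.1 t,
      oG_apply_inv, oG_apply_inv, hlk]
    abel
  set T₁ := tK hS hv hvz₁ with hT₁
  have hTv : ∀ z, ∀ hz : polar QK v z = 0, ∀ x, polar QK v x = 0 → (tK hS hv hz).1 x = x + polar QK x z • v :=
    fun z hz x hx => by rw [tK_apply, polar_comm QK x v, hx]; simp
  set D : V → K := fun x => (polar Q x η + polar Q a x * Q η) • u - polar Q a x • e with hD
  set c := T₁ * S * T₁⁻¹ * S⁻¹ with hcd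
  have hcH : c ∈ H := mul_mem (mul_mem (mul_mem (hS.tK_mem hle hv hvz₁) hSH) (inv_mem (hS.tK_mem hle hv hvz₁))) (inv_mem hSH)
  have hSi : ∀ k : K, (S⁻¹).1 (k • v) = k • v := fun k => by rw [← hSl k, oG_inv_apply, hSl]
  have hTi : ∀ k : K, (T₁⁻¹).1 (k • v) = k • v := fun k => by
    rw [← tK_fix hS hv hvz₁ k, hT₁, oG_inv_apply, tK_fix]
  have hcl : ∀ k : K, c.1 (k • v) = k • v := fun k => by
    rw [hcd, oG_mul_apply, oG_mul_apply, oG_mul_apply, hSi, hTi, hSl, hT₁, tK_fix]
  have hcx : ∀ x, polar QK v x = 0 → c.1 x = x + D x • v := fun x hx => by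
    set y := (T₁⁻¹).1 ((S⁻¹).1 x) with hy
    have hvy : polar QK v y = 0 := hS.perp_of_fix hTi (hS.perp_of_fix hSi hx)
    obtain ⟨d, hd, hdy⟩ := hSx y hvy
    have hxy : x = S.1 y + polar QK y z₁ • v := by
      rw [← hSl (polar QK y z₁), ← map_add, ← hTv z₁ hvz₁ y hvy, ← hT₁, hy, oG_apply_inv, oG_apply_inv]
    have hcx' : c.1 x = S.1 y + polar QK (S.1 y) z₁ • v := by
      rw [hcd, oG_mul_apply, oG_mul_apply, oG_mul_apply, ← hy, hT₁, hTv z₁ hvz₁ _ (hS.perp_of_fix hSl hvy)]
    obtain ⟨s, rfl⟩ := mem_one (K := K) hd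
    have haa : polar Q a a = 0 := by rw [polar_self', ha0, mul_zero]
    have hηa : polar Q η a = 0 := by rw [polar_comm, haη]
    have h1 : polar Q a x = polar Q a y := by
      rw [hxy, hdy, polar_add_right, polar_sub_right, polar_add_right, polar_add_right, polar_smul_right (x := a) (y := a),
        polar_smul_right (x := a) (y := η), haa, haη, polar_comm Q a (s • v), hline s a h.perp,
        polar_comm Q a (polar QK y z₁ • v), hline _ a h.perp]
      simp
    have h2 : polar Q x η = polar Q y η - 2 * Q η * polar Q a y := by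
      rw [hxy, hdy, polar_add_left, polar_sub_left, polar_add_left, polar_add_left,
        polar_smul_left (x := a), polar_smul_left (x := η), haη, polar_self', hline s η hvη, hline _ η hvη,
        smul_zero, smul_eq_mul]
      ring
    have h3 : polar QK (S.1 y) z₁ = polar QK y z₁ + D x := by
      rw [hdy, polar_sub_left, polar_add_left, polar_add_left, polar_smul_left, hvz₁, ← algebraMap_smul K _ a,
        polar_smul_left, haz₁, ← algebraMap_smul K _ η, polar_smul_left, hηz₁, smul_zero, add_zero, hD]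
      simp only [smul_eq_mul, h1, h2, Algebra.smul_def, map_add, map_sub, map_mul, map_ofNat]
      ring
    rw [hcx', h3, hxy, add_smul]
    abel
  obtain ⟨z₂, hvz₂, haz₂⟩ := hS.val₂ (v := v) (a := a) h.nin c₀
  set T₂ := tK hS hv hvz₂ with hT₂
  set o := T₂ * c * T₂⁻¹ * c⁻¹ with hod
  refine ⟨o, ⟨mul_mem (mul_mem (mul_mem (hS.tK_mem hle hv hvz₂) hcH) (inv_mem (hS.tK_mem hle hv hvz₂))) (inv_mem hcH),
    fun x hx => ?_⟩, fun ho => ?_⟩
  · have hci : ∀ k : K, (c⁻¹).1 (k • v) = k • v := fun k => by rw [← hcl k, oG_inv_apply, hcl]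
    have hT2i : ∀ k : K, (T₂⁻¹).1 (k • v) = k • v := fun k => by
      rw [← tK_fix hS hv hvz₂ k, hT₂, oG_inv_apply, tK_fix]
    set y := (T₂⁻¹).1 ((c⁻¹).1 x) with hy
    have hvy : polar QK v y = 0 := hS.perp_of_fix hT2i (hS.perp_of_fix hci hx)
    have hxy : x = c.1 (T₂.1 y) := by rw [hy, oG_apply_inv, oG_apply_inv]
    rw [hod, oG_mul_apply, oG_mul_apply, oG_mul_apply, ← hy]
    conv_rhs => rw [hxy, hT₂, hTv z₂ hvz₂ y hvy, map_add, hcl, hcx y hvy]
    rw [hcx y hvy, map_add, hT₂, tK_fix, hTv z₂ hvz₂ y hvy]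
    abel
  have hcomm : ∀ x, T₂.1 (c.1 x) = c.1 (T₂.1 x) := fun x => by
    have := congrArg (fun k : oG Q => k.1 (c.1 (T₂.1 x))) ho
    rw [hod] at this
    simpa [oG_mul_apply, oG_inv_apply] using this
  obtain ⟨y₀, hy₀, hvy₀⟩ := hS.partner h.v0 hv
  have key : ∀ b k : K, l (k * D (b • z₂)) = l (b * D (k • z₂)) := fun b k => by
    set x₀ := b • y₀ with hx₀
    have hb : polar QK x₀ v = b := by rw [hx₀, polar_smul_left, polar_comm, hvy₀, smul_eq_mul, mul_one]
    set δ := c.1 x₀ - x₀ with hδ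
    have hvδ : polar QK v δ = 0 := hS.sub_of_fix hcl x₀
    set δ' := T₂.1 x₀ - x₀ with hδ'
    have hδe : δ' = (polar QK x₀ z₂ - QK z₂ * b) • v + (-b) • z₂ := by
      rw [hδ', hT₂, tK_apply, hb]
      module
    have hvδ' : polar QK v δ' = 0 := hS.sub_of_fix (fun k => tK_fix hS hv hvz₂ k) x₀
    have e1 : c.1 x₀ = x₀ + δ := by rw [hδ]; abel
    have e2 : T₂.1 x₀ = x₀ + δ' := by rw [hδ']; abel
    have h1 := hcomm x₀
    rw [e1, e2, map_add, map_add, e1, e2, hT₂, hTv z₂ hvz₂ δ hvδ, hcx δ' hvδ'] at h1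
    have h2 : polar QK δ z₂ = D δ' := smul_left_injective K h.v0 (by linear_combination (norm := abel) h1)
    have h3 : D δ' = -D (b • z₂) := by
      simp only [hD, hδe, neg_smul, polar_add_left, polar_add_right, polar_neg_left, polar_neg_right, hline _ η hvη,
        polar_comm Q a ((polar QK x₀ z₂ - QK z₂ * b) • v), hline _ a h.perp, zero_add, neg_mul]
      module
    have h4 : polar Q δ (k • z₂) = -l (b * D (k • z₂)) := by
      have hz := polar_perp_smul hvz₂ k
      have e := polar_oG c x₀ (k • z₂)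
      rw [e1, hcx _ hz, polar_add_left, polar_add_right, polar_add_right, polar_comm Q δ (D (k • z₂) • v),
        hline _ δ hvδ, add_zero, hS.polar_eq x₀ (D (k • z₂) • v), polar_smul_right, hb, smul_eq_mul, mul_comm] at e
      linear_combination e
    rw [hS.polar_eq, polar_smul_right, h2, h3, smul_eq_mul, mul_neg, map_neg, neg_inj] at h4
    exact h4
  set A : F := polar Q (κ • z₂) η + polar Q a (κ • z₂) * Q η with hA
  have haκ : polar Q a (κ • z₂) = 1 := by rw [hS.polar_eq, polar_smul_right, haz₂, smul_eq_mul, mul_comm, hκ0]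
  refine hue A ?_
  refine sub_eq_zero.1 (hS.sep fun b => ?_) |>.symm
  rw [mul_zero, map_zero]
  have h1 := key b κ
  rw [show l (b * (A • u - e)) = l (b * D (κ • z₂)) by simp only [hD]; rw [← hA, haκ, one_smul], ← h1]
  rw [mul_comm κ]
  simp only [hD, sub_mul, smul_mul_assoc, map_sub, map_smul, hκU u hu, hκU e he, smul_zero, sub_zero]

end Cfsg.Agent.ClassicalMax.ExtOrth
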